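import Cfsg.Agent.Lib.SolClasses.ClassCount
import Mathlib.GroupTheory.ClassEquation
import Mathlib.GroupTheory.GroupAction.ConjAct
import Mathlib.Tactic

/-!
# Groups with at most four classes
-/

set_option autoImplicit false
set_option linter.style.haveILetI false
set_option linter.unusedSectionVars false

namespace Cfsg.Agent.SolKBound

variable {G : Type*} [Group G] [Finite G]

theorem ncard_carrier_mul (g : G) :
    (ConjClasses.mk g).carrier.ncard * Nat.card (Subgroup.centralizer ({g} : Set G)) = Nat.card G := by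
  have h := MulAction.index_stabilizer (ConjAct G) g
  rw [ConjAct.orbit_eq_carrier_conjClasses] at h
  rw [← h]
  have e : Nat.card (MulAction.stabilizer (ConjAct G) g) =
      Nat.card (Subgroup.centralizer ({g} : Set G)) := by
    refine Nat.card_congr (Equiv.subtypeEquiv ConjAct.ofConjAct.toEquiv fun x => ?_)
    rw [MulAction.mem_stabilizer_iff, Subgroup.mem_centralizer_singleton_iff, ConjAct.smul_def,
      mul_inv_eq_iff_eq_mul]
    rfl
  rw [← e, Subgroup.index_mul_card, Nat.card_congr ConjAct.ofConjAct.toEquiv]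

theorem ncard_carrier_dvd (c : ConjClasses G) : c.carrier.ncard ∣ Nat.card G := by
  induction c using Quotient.inductionOn with
  | h g => exact ⟨_, (ncard_carrier_mul g).symm⟩

theorem ncard_carrier_pos (c : ConjClasses G) : 0 < c.carrier.ncard := by
  induction c using Quotient.inductionOn with
  | h g => exact (Set.ncard_pos (Set.toFinite _)).2 ⟨g, ConjClasses.mem_carrier_mk⟩

theorem ncard_carrier_one : (ConjClasses.mk (1 : G)).carrier.ncard = 1 := by
  rw [Set.ncard_eq_one]
  exact ⟨1, Set.eq_singleton_iff_unique_mem.2 ⟨ConjClasses.mem_carrier_mk, fun y hy =>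
    isConj_one_left.1 ((ConjClasses.mem_carrier_iff_mk_eq.1 hy ▸ rfl : ConjClasses.mk (1 : G) = _) |>
      ConjClasses.mk_eq_mk_iff_isConj.1 |> IsConj.symm)⟩⟩

/-- The nontrivial classes account for all but one element. -/
theorem exists_sizes {k : ℕ} (hk : Nat.card (ConjClasses G) = k + 1) :
    ∃ s : Fin k → ℕ, 1 + ∑ i, s i = Nat.card G ∧ (∀ i, s i ∣ Nat.card G) ∧ ∀ i, 0 < s i := by
  classical
  haveI := Fintype.ofFinite (ConjClasses G)
  set S := (Finset.univ : Finset (ConjClasses G)).erase (ConjClasses.mk 1) with hS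
  have hc : S.card = k := by
    rw [hS, Finset.card_erase_of_mem (Finset.mem_univ _), Finset.card_univ, ← Nat.card_eq_fintype_card, hk]
    rfl
  refine ⟨fun i => ((S.equivFinOfCardEq hc).symm i : ConjClasses G).carrier.ncard, ?_,
    fun i => ncard_carrier_dvd _, fun i => ncard_carrier_pos _⟩
  rw [Equiv.sum_comp (S.equivFinOfCardEq hc).symm (fun c : S => (c : ConjClasses G).carrier.ncard),
    Finset.sum_coe_sort S (fun c => c.carrier.ncard)]
  have h := Finset.add_sum_erase Finset.univ (fun c : ConjClasses G => c.carrier.ncard)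
    (Finset.mem_univ (ConjClasses.mk 1))
  rw [ncard_carrier_one] at h
  rw [hS, h, ← finsum_eq_sum_of_fintype, Group.sum_card_conj_classes_eq_card]

theorem two_sizes {h a b : ℕ} (e : 1 + a + b = h) (ha : a ∣ h) (hb : b ∣ h) (h0 : 0 < a) (h1 : 0 < b) :
    h ≤ 6 := by
  wlog hab : b ≤ a generalizing a b
  · exact this (by omega) hb ha h1 h0 (by omega)
  obtain ⟨i, hi⟩ := ha
  have : i ≤ 3 := by nlinarith
  obtain ⟨j, hj⟩ := hb
  have hi2 : 2 ≤ i := by
    by_contra hc
    interval_cases i <;> omega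
  interval_cases i
  · have hb' : b + 1 = a := by omega
    have : j ≤ 6 := by nlinarith
    interval_cases j <;> omega
  · have : a ≤ 2 := by omega
    omega

theorem three_sizes {h a b c : ℕ} (e : 1 + a + b + c = h) (ha : a ∣ h) (hb : b ∣ h) (hc : c ∣ h)
    (h0 : 0 < a) (h1 : 0 < b) (h2 : 0 < c) (hab : b ≤ a) (hbc : c ≤ b) : h ≤ 42 := by
  obtain ⟨i, hi⟩ := ha
  obtain ⟨j, hj⟩ := hb
  obtain ⟨l, hl⟩ := hc
  have hi4 : i ≤ 4 := by nlinarith
  have hi2 : 2 ≤ i := by
    by_contra hcon
    interval_cases i <;> omega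
  have hj6 : j ≤ 6 := by
    by_contra hcon
    have h7 : b * 7 ≤ h := hj ▸ Nat.mul_le_mul_left b (not_le.1 hcon)
    interval_cases i <;> omega
  interval_cases i <;> interval_cases j <;> first
    | omega
    | (have hl12 : l ≤ 42 := by nlinarith
       interval_cases l <;> omega)

theorem three_sizes' {h a b c : ℕ} (e : 1 + a + b + c = h) (ha : a ∣ h) (hb : b ∣ h) (hc : c ∣ h)
    (h0 : 0 < a) (h1 : 0 < b) (h2 : 0 < c) : h ≤ 42 := by
  rcases le_total b a with h3 | h3 <;> rcases le_total c b with h4 | h4 <;>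
    rcases le_total c a with h5 | h5
  all_goals first
    | exact three_sizes e ha hb hc h0 h1 h2 h3 h4
    | exact three_sizes (a := a) (b := c) (c := b) (by omega) ha hc hb h0 h2 h1 h5 h4
    | exact three_sizes (a := c) (b := a) (c := b) (by omega) hc ha hb h2 h0 h1 h5 h3
    | exact three_sizes (a := b) (b := a) (c := c) (by omega) hb ha hc h1 h0 h2 h3 h5
    | exact three_sizes (a := b) (b := c) (c := a) (by omega) hb hc ha h1 h2 h0 h4 h5
    | exact three_sizes (a := c) (b := b) (c := a) (by omega) hc hb ha h2 h1 h0 h4 h3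

/-- At most three classes: order at most six. -/
theorem card_le_of_classes_le_three (h : Nat.card (ConjClasses G) ≤ 3) : Nat.card G ≤ 6 := by
  obtain ⟨k, hk⟩ : ∃ k, Nat.card (ConjClasses G) = k + 1 :=
    ⟨Nat.card (ConjClasses G) - 1, by
      haveI : Nonempty (ConjClasses G) := ⟨ConjClasses.mk 1⟩
      have := Nat.card_pos (α := ConjClasses G)
      omega⟩
  obtain ⟨s, hs, hd, hp⟩ := exists_sizes hk
  have : k ≤ 2 := by omega
  interval_cases k
  · simp at hs; omega
  · rw [Fin.sum_univ_one] at hs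
    have h1 : s 0 ∣ 1 := (Nat.dvd_add_left (dvd_refl _)).1 (hs.symm ▸ hd 0)
    rw [Nat.dvd_one] at h1
    omega
  · rw [Fin.sum_univ_two, ← add_assoc] at hs
    exact two_sizes hs (hd 0) (hd 1) (hp 0) (hp 1)

/-- At most four classes: order at most 42. -/
theorem card_le_of_classes_le_four (h : Nat.card (ConjClasses G) ≤ 4) : Nat.card G ≤ 42 := by
  by_cases h3 : Nat.card (ConjClasses G) ≤ 3
  · exact (card_le_of_classes_le_three h3).trans (by norm_num)
  obtain ⟨s, hs, hd, hp⟩ := exists_sizes (k := 3) (G := G) (by omega)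
  rw [Fin.sum_univ_three, ← add_assoc, ← add_assoc] at hs
  exact three_sizes' hs (hd 0) (hd 1) (hd 2) (hp 0) (hp 1) (hp 2)

/-- With four dividing the order, no element has a centraliser of order two. -/
theorem centralizer_ne_two (h4 : 4 ∣ Nat.card G) (z : G) :
    Nat.card (Subgroup.centralizer ({z} : Set G)) ≠ 2 := by
  classical
  intro h2
  haveI : Fact (Nat.Prime 2) := ⟨Nat.prime_two⟩
  set C := Subgroup.centralizer ({z} : Set G) with hC
  have hzC : z ∈ C := Subgroup.mem_centralizer_singleton_iff.2 rfl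
  rcases eq_or_ne z 1 with rfl | hz
  · have hCtop : C = ⊤ := eq_top_iff.2 fun g _ => Subgroup.mem_centralizer_singleton_iff.2 (by rw [mul_one, one_mul])
    rw [hCtop, Subgroup.card_top] at h2
    rw [h2] at h4
    norm_num at h4
  have hz2 : orderOf z = 2 := by
    have h := orderOf_dvd_natCard (⟨z, hzC⟩ : C)
    rw [h2, Subgroup.orderOf_mk] at h
    exact ((Nat.dvd_prime Nat.prime_two).1 h).resolve_left fun h1 => hz (orderOf_eq_one_iff.1 h1)
  have hp : IsPGroup 2 (Subgroup.zpowers z) := IsPGroup.of_card (n := 1) (by rw [Nat.card_zpowers, hz2, pow_one])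
  obtain ⟨P, hP⟩ := hp.exists_le_sylow
  have hzP : z ∈ (P : Subgroup G) := hP (Subgroup.mem_zpowers z)
  have h4P : 4 ∣ Nat.card (P : Subgroup G) := P.pow_dvd_card_of_pow_dvd_card (n := 2) (by simpa using h4)
  haveI : Nontrivial (P : Subgroup G) :=
    Finite.one_lt_card_iff_nontrivial.1 (lt_of_lt_of_le (by norm_num) (Nat.le_of_dvd Nat.card_pos h4P))
  haveI := P.isPGroup'.center_nontrivial
  obtain ⟨w, hw⟩ := exists_ne (1 : Subgroup.center (P : Subgroup G))
  have hwC : ((w : (P : Subgroup G)) : G) ∈ C := Subgroup.mem_centralizer_singleton_iff.2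
    (congrArg Subtype.val (Subgroup.mem_center_iff.1 w.2 ⟨z, hzP⟩)).symm
  have hsub : (Subgroup.zpowers z) = C := Subgroup.eq_of_le_of_card_ge (Subgroup.zpowers_le.2 hzC)
    (by rw [h2, Nat.card_zpowers, hz2])
  rw [← hsub, Subgroup.mem_zpowers_iff] at hwC
  obtain ⟨i, hi⟩ := hwC
  have hwz : ((w : (P : Subgroup G)) : G) = z := by
    rcases Int.emod_two_eq_zero_or_one i with he | he
    · exfalso
      refine hw (Subtype.ext (Subtype.ext ?_))
      rw [← hi, ← zpow_mod_orderOf, hz2, Nat.cast_ofNat, he, zpow_zero]; rfl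
    · rw [← hi, ← zpow_mod_orderOf, hz2, Nat.cast_ofNat, he, zpow_one]
  have hPC : (P : Subgroup G) ≤ C := fun y hy => Subgroup.mem_centralizer_singleton_iff.2 (by
    have := congrArg Subtype.val (Subgroup.mem_center_iff.1 w.2 ⟨y, hy⟩)
    simpa [hwz] using this)
  have := (Nat.le_of_dvd Nat.card_pos h4P).trans (Subgroup.card_le_of_le hPC)
  omega

end Cfsg.Agent.SolKBound
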