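import Cfsg.Agent.Lib.SolClasses.ClassCount
import Cfsg.Agent.Lib.SolKBound.Small
import Mathlib.GroupTheory.CommutingProbability
import Mathlib.Data.Set.Card.Arithmetic
import Mathlib.Tactic

/-!
# Order against class number
-/

set_option autoImplicit false
set_option linter.style.haveILetI false
set_option linter.unusedSectionVars false

namespace Cfsg.Agent.SolKBound

open Cfsg.Agent.SolClasses

variable {G : Type*} [Group G] [Finite G]

theorem classes_pos : 0 < Nat.card (ConjClasses G) :=
  haveI : Nonempty (ConjClasses G) := ⟨ConjClasses.mk 1⟩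
  Nat.card_pos

/-- `k(N) ≤ [G : N] k(G)`. -/
theorem classes_sub_le (N : Subgroup G) :
    Nat.card (ConjClasses N) ≤ N.index * Nat.card (ConjClasses G) := by
  have h := Subgroup.commProb_subgroup_le N
  rw [commProb_def', commProb_def'] at h
  have hN : (0 : ℚ) < Nat.card N := Nat.cast_pos.2 Nat.card_pos
  have hG : (Nat.card G : ℚ) = (N.index : ℚ) * Nat.card N := by
    rw [← Nat.cast_mul, N.index_mul_card]
  have hi : (0 : ℚ) < N.index := Nat.cast_pos.2 (Nat.pos_of_ne_zero Subgroup.index_ne_zero_of_finite)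
  rw [hG, div_le_iff₀ hN] at h
  have e : (Nat.card (ConjClasses G) : ℚ) / ((N.index : ℚ) * Nat.card N) * (N.index : ℚ) ^ 2 *
      Nat.card N = N.index * Nat.card (ConjClasses G) := by field_simp
  rw [e] at h
  exact_mod_cast h

/-- The ratio grows at most by the square of the index. -/
theorem card_le_extend (N : Subgroup G) {a b : ℕ} (h : a * Nat.card N ≤ b * Nat.card (ConjClasses N)) :
    a * Nat.card G ≤ N.index ^ 2 * b * Nat.card (ConjClasses G) := by
  rw [← N.index_mul_card]
  calc a * (N.index * Nat.card N) = N.index * (a * Nat.card N) := by ring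
    _ ≤ N.index * (b * (N.index * Nat.card (ConjClasses G))) :=
        Nat.mul_le_mul_left _ (h.trans (Nat.mul_le_mul_left _ (classes_sub_le N)))
    _ = _ := by ring

theorem card_conjClasses_pi {ι : Type*} [Fintype ι] (H : ι → Type*) [∀ i, Group (H i)] [∀ i, Finite (H i)] :
    Nat.card (ConjClasses (∀ i, H i)) = ∏ i, Nat.card (ConjClasses (H i)) := by
  have h := commProb_pi H
  simp only [commProb_def', Finset.prod_div_distrib] at h
  rw [Nat.card_pi, Nat.cast_prod] at h
  have hne : ∏ i, (Nat.card (H i) : ℚ) ≠ 0 :=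
    Finset.prod_ne_zero_iff.2 fun i _ => Nat.cast_ne_zero.2 Nat.card_pos.ne'
  rw [div_left_inj' hne] at h
  exact_mod_cast h

/-- Subgroups of products. -/
theorem card_le_pi {ι : Type*} [Fintype ι] (H : ι → Type*) [∀ i, Group (H i)] [∀ i, Finite (H i)]
    (f : G →* ∀ i, H i) (hf : Function.Injective f) {a b : ℕ}
    (h : ∀ i, a * Nat.card (H i) ≤ b * Nat.card (ConjClasses (H i))) :
    a ^ Fintype.card ι * Nat.card G ≤ b ^ Fintype.card ι * Nat.card (ConjClasses G) := by
  have h1 : a ^ Fintype.card ι * Nat.card (∀ i, H i) ≤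
      b ^ Fintype.card ι * Nat.card (ConjClasses (∀ i, H i)) := by
    rw [Nat.card_pi, card_conjClasses_pi, ← Finset.card_univ, ← Finset.prod_const, ← Finset.prod_const,
      ← Finset.prod_mul_distrib, ← Finset.prod_mul_distrib]
    exact Finset.prod_le_prod' fun i _ => h i
  have e := classes_congr (MonoidHom.ofInjective hf)
  have e2 : Nat.card G = Nat.card f.range := Nat.card_congr (MonoidHom.ofInjective hf).toEquiv
  rw [e, e2]
  have h2 := classes_le_index_mul f.range
  have h3 := h1.trans (Nat.mul_le_mul_left _ h2)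
  rw [← f.range.index_mul_card] at h3
  refine Nat.le_of_mul_le_mul_left ?_ (Nat.pos_of_ne_zero (Subgroup.index_ne_zero_of_finite (H := f.range)))
  calc f.range.index * (a ^ Fintype.card ι * Nat.card f.range)
      = a ^ Fintype.card ι * (f.range.index * Nat.card f.range) := by ring
    _ ≤ _ := h3
    _ = _ := by ring

/-- Abelian normal subgroups are small. -/
theorem card_le_center (Z : Subgroup G) (hZ : Z ≤ Subgroup.center G) :
    Nat.card Z ≤ Nat.card (ConjClasses G) := by
  refine Nat.card_le_card_of_injective (fun z : Z => ConjClasses.mk (z : G)) fun a b h => Subtype.ext ?_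
  obtain ⟨c, hc⟩ := isConj_iff.1 (ConjClasses.mk_eq_mk_iff_isConj.1 h)
  rw [Subgroup.mem_center_iff.1 (hZ a.2) c, mul_inv_cancel_right] at hc
  exact hc

theorem classes_of_comm (h : ∀ a b : G, a * b = b * a) : Nat.card (ConjClasses G) = Nat.card G := by
  refine le_antisymm classes_le_card ?_
  exact (Nat.card_congr (Subgroup.topEquiv (G := G)).toEquiv).symm.le.trans
    (card_le_center ⊤ fun x _ => Subgroup.mem_center_iff.2 fun g => h g x)

/-- The classes inside a normal subgroup. -/
theorem orbit_count (V : Subgroup G) [V.Normal] (C : Subgroup G)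
    (hC : ∀ c ∈ C, ∀ v ∈ V, c * v = v * c) :
    ∃ O, Nat.card (ConjClasses (G ⧸ V)) + O ≤ Nat.card (ConjClasses G) ∧ Nat.card V - 1 ≤ O * C.index := by
  classical
  haveI := Fintype.ofFinite (ConjClasses G)
  haveI := Fintype.ofFinite G
  set S := (Finset.univ : Finset (ConjClasses G)).filter (fun c => c.carrier ⊆ (V : Set G) ∧ c ≠ ConjClasses.mk 1) with hS
  refine ⟨S.card, ?_, ?_⟩
  · set π := ConjClasses.map (QuotientGroup.mk' V) with hπ
    have hsurj : Function.Surjective π := ConjClasses.map_surjective (QuotientGroup.mk'_surjective V)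
    have h1 : π (ConjClasses.mk 1) = ConjClasses.mk 1 := rfl
    have hS1 : ∀ c ∈ S, π c = ConjClasses.mk 1 := by
      intro c hc
      obtain ⟨x, rfl⟩ := ConjClasses.mk_surjective c
      have hxV : x ∈ V := (Finset.mem_filter.1 hc).2.1 ConjClasses.mem_carrier_mk
      show ConjClasses.mk (QuotientGroup.mk' V x) = _
      rw [QuotientGroup.mk'_apply, (QuotientGroup.eq_one_iff x).2 hxV]
    let σ : ConjClasses (G ⧸ V) → ConjClasses G := fun c =>
      if c = ConjClasses.mk 1 then ConjClasses.mk 1 else Function.surjInv hsurj c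
    have hσ : ∀ c, π (σ c) = c := fun c => by
      by_cases h : c = ConjClasses.mk 1
      · simp only [σ, if_pos h]; rw [h1, h]
      · simp only [σ, if_neg h]; exact Function.surjInv_eq hsurj c
    have hdis : ∀ c, σ c ∉ S := fun c hc => by
      by_cases h : c = ConjClasses.mk 1
      · simp only [σ, if_pos h] at hc
        exact (Finset.mem_filter.1 hc).2.2 rfl
      · exact h ((hσ c).symm.trans (hS1 _ hc))
    rw [← Nat.card_eq_finsetCard, ← Nat.card_sum]
    refine Nat.card_le_card_of_injective (Sum.elim σ Subtype.val) ?_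
    exact (Function.LeftInverse.injective hσ).sumElim Subtype.val_injective fun c s e => hdis c (e ▸ s.2)
  · have hsub : (V : Set G) \ {1} ⊆ ⋃ c ∈ S, ConjClasses.carrier c := by
      rintro x ⟨hx, hx1⟩
      refine Set.mem_iUnion₂.2 ⟨ConjClasses.mk x, Finset.mem_filter.2 ⟨Finset.mem_univ _, ?_, ?_⟩,
        ConjClasses.mem_carrier_mk⟩
      · intro y hy
        obtain ⟨g, rfl⟩ := isConj_iff.1 (ConjClasses.mk_eq_mk_iff_isConj.1
          (ConjClasses.mem_carrier_iff_mk_eq.1 hy)).symm
        exact (inferInstance : V.Normal).conj_mem x hx g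
      · intro e
        exact hx1 (isConj_one_left.1 (ConjClasses.mk_eq_mk_iff_isConj.1 e))
    have h1 := Set.ncard_le_ncard hsub (Set.toFinite _)
    rw [Set.ncard_sdiff (Set.singleton_subset_iff.2 V.one_mem) (Set.toFinite _), Set.ncard_singleton,
      ← Nat.card_coe_set_eq] at h1
    refine h1.trans ((Finset.set_ncard_biUnion_le _ _).trans ((Finset.sum_le_card_nsmul _ _ _ fun c hc => ?_).trans
      (by rw [smul_eq_mul])))
    obtain ⟨x, rfl⟩ := ConjClasses.mk_surjective c
    have hxV : x ∈ V := (Finset.mem_filter.1 hc).2.1 ConjClasses.mem_carrier_mk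
    have hle : C ≤ Subgroup.centralizer ({x} : Set G) := fun c hc =>
      Subgroup.mem_centralizer_singleton_iff.2 (hC c hc x hxV)
    refine Nat.le_of_mul_le_mul_right ?_ (Nat.card_pos (α := Subgroup.centralizer ({x} : Set G)))
    rw [ncard_carrier_mul, ← C.index_mul_card]
    exact Nat.mul_le_mul_left _ (Subgroup.card_le_of_le hle)

/-- Arithmetic and geometric means. -/
theorem finish_bound {p h κ O X a b : ℕ} (hX : X ≤ O * h) (hb : a * h ≤ b * κ) (hb0 : 0 < b)
    (hc : b * (2401 * p ^ 2) ≤ a * (14400 * X)) : 49 * p ≤ 60 * (κ + O) := by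
  have h1 : a * X ≤ b * (κ * O) := by
    calc a * X ≤ a * (O * h) := Nat.mul_le_mul_left _ hX
      _ = O * (a * h) := by ring
      _ ≤ O * (b * κ) := Nat.mul_le_mul_left _ hb
      _ = b * (κ * O) := by ring
  have h2 : b * (49 * p) ^ 2 ≤ b * (60 * (κ + O)) ^ 2 := by
    calc b * (49 * p) ^ 2 = b * (2401 * p ^ 2) := by ring
      _ ≤ a * (14400 * X) := hc
      _ = 14400 * (a * X) := by ring
      _ ≤ 14400 * (b * (κ * O)) := Nat.mul_le_mul_left _ h1
      _ = b * (3600 * (4 * κ * O)) := by ring
      _ ≤ b * (3600 * (κ + O) ^ 2) := Nat.mul_le_mul_left _ (Nat.mul_le_mul_left _ (four_mul_le_pow_two_add κ O))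
      _ = b * (60 * (κ + O)) ^ 2 := by ring
  exact (Nat.pow_le_pow_iff_left two_ne_zero).1 (Nat.le_of_mul_le_mul_left h2 hb0)

end Cfsg.Agent.SolKBound
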