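import Cfsg.Agent.Lib.SolClasses.Symp
import Mathlib.Tactic

/-!
# Orders of soluble symplectic groups of small degree
-/

set_option autoImplicit false
set_option linter.style.haveILetI false
set_option linter.unusedSectionVars false

namespace Cfsg.Agent.SolKBound

open Cfsg.Agent.SolClasses Cfsg.Agent.SolBase Cfsg.Agent.PrimSol

universe u

/-- Bound on the similitudes of multiplier one in degree `e`. -/
def tableJ : ℕ → ℕ
  | 1 => 1
  | 2 => 6
  | 3 => 24
  | 4 => 72
  | 5 => 120
  | 6 => 144
  | 7 => 336
  | 8 => 2187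
  | e => e ^ 6

theorem card_M_eq_square {Y M C : Type u} [Group Y] [Finite Y] [CommGroup M] [CommGroup C] [Finite M]
    [Finite C] [IsCyclic C] (S : Sympl Y M C) (hY : Group.IsSolvable Y)
    (hsq : ∀ x : M, ∃ k : ℕ, Squarefree k ∧ x ^ k = 1) : ∃ e, e * e = Nat.card M ∧ 0 < e := by
  obtain ⟨e, he, -⟩ := kb_img _ Y M C S rfl hY hsq
  refine ⟨e, he, Nat.pos_of_ne_zero fun h => ?_⟩
  rw [h, mul_zero] at he
  exact (Nat.card_pos (α := M)).ne he

theorem card_img_table : ∀ (e : ℕ) (Y M C : Type u) [Group Y] [Finite Y] [CommGroup M] [CommGroup C]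
    [Finite M] [Finite C] [IsCyclic C] (S : Sympl Y M C), Nat.card M = e * e → Group.IsSolvable Y →
    (∀ x : M, ∃ k : ℕ, Squarefree k ∧ x ^ k = 1) → e ≤ 8 → Nat.card S.img ≤ tableJ e := by
  intro e
  induction e using Nat.strong_induction_on with
  | _ e ih =>
  intro Y M C _ _ _ _ _ _ _ S hM hY hsq he8
  classical
  haveI := hY
  haveI : Finite (MulAut M) := Finite.of_injective _ DFunLike.coe_injective
  rcases eq_or_ne e 1 with rfl | he1
  · haveI : Subsingleton M := (Nat.card_eq_one_iff_unique.1 hM).1
    haveI : Subsingleton (MulAut M) := ⟨fun f g => MulEquiv.ext fun _ => Subsingleton.elim _ _⟩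
    exact (Nat.card_unique (α := S.img)).le
  have he0 : e ≠ 0 := fun h => (Nat.card_pos (α := M)).ne' (by rw [hM, h])
  by_cases hred : ∃ B : Subgroup M, (∀ y : Y, ∀ x ∈ B, S.act y x ∈ B) ∧ B ≠ ⊥ ∧ B ≠ ⊤
  · obtain ⟨B, hB, hbot, htop⟩ := hred
    obtain ⟨-, h2, hmul⟩ := S.isComplement hB
    have hperp : S.perp B ≠ ⊥ := fun e => htop (by rwa [e, sup_bot_eq] at h2)
    have hb1 : 1 < Nat.card B := (Subgroup.one_lt_card_iff_ne_bot B).2 hbot
    have hb2 : 1 < Nat.card (S.perp B) := (Subgroup.one_lt_card_iff_ne_bot _).2 hperp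
    have hsqB : ∀ (B' : Subgroup M) (x : B'), ∃ k : ℕ, Squarefree k ∧ x ^ k = 1 := fun B' x => by
      obtain ⟨k, hk, hk'⟩ := hsq x
      exact ⟨k, hk, Subtype.ext (by simpa using hk')⟩
    obtain ⟨e1, h1, -⟩ := card_M_eq_square (S.restrict B hB) hY (hsqB B)
    obtain ⟨e2, h2', -⟩ := card_M_eq_square (S.restrict _ (S.perp_inv hB)) hY (hsqB _)
    have h12 : e1 * e2 = e := Nat.mul_self_inj.1 (by rw [← hM, hmul, ← h1, ← h2']; ring)
    have e1two : 2 ≤ e1 := by
      by_contra hc
      interval_cases e1 <;> omega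
    have e2two : 2 ≤ e2 := by
      by_contra hc
      interval_cases e2 <;> omega
    have hlt1 : e1 < e := by rw [← h12]; exact lt_mul_right (by omega) (by omega)
    have hlt2 : e2 < e := by rw [← h12]; exact lt_mul_left (by omega) (by omega)
    haveI : Finite (MulAut B) := Finite.of_injective _ DFunLike.coe_injective
    haveI : Finite (MulAut (S.perp B)) := Finite.of_injective _ DFunLike.coe_injective
    refine (S.card_img_split hB).trans ((Nat.mul_le_mul
      (ih e1 hlt1 Y B C (S.restrict B hB) h1.symm hY (hsqB B) (by omega))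
      (ih e2 hlt2 Y (S.perp B) C (S.restrict _ (S.perp_inv hB)) h2'.symm hY (hsqB _) (by omega))).trans ?_)
    subst h12
    have : e1 ≤ 4 := by nlinarith
    have : e2 ≤ 4 := by nlinarith
    interval_cases e1 <;> interval_cases e2 <;> first | omega | simp [tableJ]
  · push Not at hred
    have hirrM : ∀ B : Subgroup M, (∀ f ∈ S.act.range, ∀ x ∈ B, f x ∈ B) → B = ⊥ ∨ B = ⊤ := by
      intro B hB
      by_cases hb : B = ⊥
      · exact Or.inl hb
      · exact Or.inr (hred B (fun y x hx => hB _ ⟨y, rfl⟩ x hx) hb)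
    obtain ⟨p, hp, hpd⟩ := Nat.exists_prime_and_dvd he1
    haveI := Fact.mk hp
    obtain ⟨x0, hx0⟩ := exists_prime_orderOf_dvd_card' (G := M) p (hM ▸ hpd.mul_right e)
    have hexp : ∀ x : M, x ^ p = 1 := by
      let T : Subgroup M := (powMonoidHom p).ker
      have hT : T = ⊤ := (hirrM T fun f _ x hx => by
          show (f x) ^ p = 1
          rw [← map_pow, show x ^ p = 1 from hx, map_one]).resolve_left fun e => by
        have : x0 ∈ T := by show x0 ^ p = 1; rw [← hx0]; exact pow_orderOf_eq_one x0
        rw [e, Subgroup.mem_bot] at this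
        rw [this, orderOf_one] at hx0
        exact hp.ne_one hx0.symm
      exact fun x => (hT ▸ Subgroup.mem_top x : x ∈ T)
    obtain ⟨m, hm⟩ := S.card_square hp (Nat.card M) ⊤ Subgroup.card_top (fun x _ => hexp x)
      fun x _ hx => S.nondeg fun z => hx z trivial
    have hem : e = p ^ m := Nat.mul_self_inj.1 (by rw [← hM, hm, ← pow_add, two_mul])
    subst hem
    have hm0 : m ≠ 0 := fun h => he1 (by rw [h, pow_zero])
    rcases (show m = 1 ∨ 2 ≤ m by omega) with rfl | hm2
    · rw [pow_one] at he8 hM ⊢
      refine (card_img_plane S hp hM hexp).trans ?_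
      have := hp.two_le
      clear hpd hx0
      interval_cases p <;> (revert hp; norm_num [tableJ])
    have hp2 : p = 2 := by
      by_contra h
      have h3 : 3 ≤ p := by have := hp.two_le; omega
      have : 3 ^ 2 ≤ p ^ m := (Nat.pow_le_pow_left h3 2).trans (Nat.pow_le_pow_right hp.pos hm2)
      omega
    subst hp2
    have hm3 : m ≤ 3 := by
      by_contra h
      have : 2 ^ 4 ≤ 2 ^ m := Nat.pow_le_pow_right (by norm_num) (by omega)
      omega
    interval_cases m
    · exact card_img_sixteen S hY (by rw [hM]; norm_num) hexp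
    · haveI : Module (ZMod 2) (Additive M) := AddCommGroup.zmodModule fun x => hexp (Additive.toMul x)
      haveI : Module.Finite (ZMod 2) (Additive M) := Module.Finite.of_finite
      haveI : Nontrivial M := Finite.one_lt_card_iff_nontrivial.1 (by rw [hM]; norm_num)
      have hs : Group.IsSolvable S.act.range := Group.isSolvable_of_surjective S.act.rangeRestrict_surjective
      exact (Subgroup.card_le_of_le (Subgroup.map_le_range _ _)).trans
        (irred_six_two.{u} (Nat.card_zmod 2) (Additive M) S.act.range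
          ((linHom 2).comp S.act.range.subtype) (finrank_additive (k := 6) (by rw [hM]; norm_num))
          ((linHom_injective 2).comp Subtype.val_injective) (linHom_irred 2 _ hirrM) hs)

/-- Three elements determine an element of the acting group. -/
theorem card_range_le_cube {Y M C : Type u} [Group Y] [Finite Y] [CommGroup M] [CommGroup C]
    [Finite M] [Finite C] [IsCyclic C] (S : Sympl Y M C) (hY : Group.IsSolvable Y) :
    Nat.card S.act.range ≤ Nat.card M ^ 3 := by
  classical
  haveI : Finite (MulAut M) := Finite.of_injective _ DFunLike.coe_injective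
  have hA : Group.IsSolvable S.act.range := by
    haveI := hY
    exact Group.isSolvable_of_surjective S.act.rangeRestrict_surjective
  letI : DistribMulAction S.act.range (Additive M) :=
    { smul := fun f x => Additive.ofMul ((f : MulAut M) (Additive.toMul x))
      one_smul := fun x => rfl
      mul_smul := fun f g x => rfl
      smul_zero := fun f => congrArg Additive.ofMul (map_one (f : MulAut M))
      smul_add := fun f x y => congrArg Additive.ofMul (map_mul (f : MulAut M) _ _) }
  obtain ⟨u, -, hu⟩ := three_invariant (A := S.act.range) (V := Additive M) hA (fun U hU => by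
    let B : Subgroup M := AddSubgroup.toSubgroup' U
    have hB : ∀ y : Y, ∀ x ∈ B, S.act y x ∈ B := fun y x hx =>
      hU ⟨S.act y, y, rfl⟩ (Additive.ofMul x) hx
    obtain ⟨h1, h2, -⟩ := S.isComplement hB
    refine ⟨Subgroup.toAddSubgroup (S.perp B), ?_, ?_, ?_⟩
    · rintro ⟨_, y, rfl⟩ w hw
      exact S.perp_inv hB y _ hw
    · rw [AddSubgroup.eq_bot_iff_forall]
      rintro x ⟨hx1, hx2⟩
      have : Additive.toMul x ∈ B ⊓ S.perp B := ⟨hx1, hx2⟩
      rw [h1] at this
      exact this
    · rw [AddSubgroup.eq_top_iff']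
      intro x
      obtain ⟨a, ha, b, hb, hab⟩ := Subgroup.mem_sup.1 (h2.symm ▸ Subgroup.mem_top (Additive.toMul x) :
        Additive.toMul x ∈ B ⊔ S.perp B)
      exact AddSubgroup.mem_sup.2 ⟨Additive.ofMul a, ha, Additive.ofMul b, hb,
        congrArg Additive.ofMul hab⟩) ⊤ (fun _ _ _ => trivial)
  let Φ : S.act.range → (Fin 3 → Additive M) := fun f k => f • u k
  refine (Nat.card_le_card_of_injective Φ fun f g h => ?_).trans ?_
  · have h1 : ∀ v : Additive M, (g⁻¹ * f) • v = v := fun v => hu _ (fun k => by
      rw [mul_smul, show f • u k = g • u k from congrFun h k, inv_smul_smul]) v trivial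
    refine (inv_mul_eq_one.1 (Subtype.ext (MulEquiv.ext fun x => ?_))).symm
    exact congrArg Additive.toMul (h1 (Additive.ofMul x))
  · rw [Nat.card_fun, Nat.card_fin, ← Nat.card_congr (Additive.ofMul (α := M))]

theorem card_img_le_tableJ {Y M C : Type u} [Group Y] [Finite Y] [CommGroup M] [CommGroup C]
    [Finite M] [Finite C] [IsCyclic C] (S : Sympl Y M C) (hY : Group.IsSolvable Y) {e : ℕ}
    (hM : Nat.card M = e * e) (hsq : ∀ x : M, ∃ k : ℕ, Squarefree k ∧ x ^ k = 1) :
    Nat.card S.img ≤ tableJ e := by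
  by_cases he : e ≤ 8
  · exact card_img_table e Y M C S hM hY hsq he
  · haveI : Finite (MulAut M) := Finite.of_injective _ DFunLike.coe_injective
    have h : tableJ e = e ^ 6 := by
      unfold tableJ
      split <;> omega
    rw [h]
    refine (Subgroup.card_le_of_le (Subgroup.map_le_range _ _)).trans ((card_range_le_cube S hY).trans ?_)
    rw [hM]; ring_nf; rfl

end Cfsg.Agent.SolKBound
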