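import Cfsg.Agent.Lib.SolKBound.Counting
import Cfsg.Agent.Lib.SolClasses.PermBound
import Cfsg.Agent.Lib.SolClasses.Blocks

/-!
# The imprimitive step
-/

set_option autoImplicit false
set_option linter.style.haveILetI false
set_option linter.unusedSectionVars false

namespace Cfsg.Agent.SolKBound

open Cfsg.Agent.SolClasses Cfsg.Agent.PrimSol

universe u v w

variable {F : Type w} [Field F]

/-- `a |H| ≤ b k(H)` for irreducible soluble linear groups in dimension `s`. -/
def RatioBound (F : Type w) [Field F] (s a b : ℕ) : Prop :=
  ∀ (W : Type v) [AddCommGroup W] [Module F W] [FiniteDimensional F W] [Finite W] [Nontrivial W]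
    (H : Type v) [Group H] [Finite H] (τ : H →* Module.End F W),
    Module.finrank F W = s → Function.Injective τ → Irred τ → Group.IsSolvable H →
      a * Nat.card H ≤ b * Nat.card (ConjClasses H)

variable {V : Type v} [AddCommGroup V] [Module F V] [FiniteDimensional F V] [Finite V] [Nontrivial V]
  {G : Type u} [Group G] [Finite G] {ρ : G →* Module.End F V}

theorem card_perm_le (B : Blocks ρ) (hsol : Group.IsSolvable G) :
    Nat.card B.π.range ≤ 3 ^ (B.t - 1) := by
  letI : MulAction G (Fin B.t) := MulAction.compHom _ B.π
  have e : MulAction.toPermHom G (Fin B.t) = B.π := MonoidHom.ext fun g => Equiv.ext fun _ => rfl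
  have h := range_le hsol (Fin B.t)
  rwa [e, Nat.card_fin] at h

/-- The ratio for a group with a system of imprimitivity. -/
theorem imprim_bound (B : Blocks ρ) (hρ : Function.Injective ρ) (hirr : Irred ρ)
    (hsol : Group.IsSolvable G) {a b : ℕ} (hb : RatioBound.{v} F B.s a b) :
    a ^ B.t * Nat.card G ≤ Nat.card B.π.range ^ 2 * b ^ B.t * Nat.card (ConjClasses G) := by
  classical
  haveI := hsol
  haveI hfin : ∀ i, Finite (Module.End F (B.D i))ˣ := fun i => by
    haveI : Finite (Module.End F (B.D i)) := Finite.of_injective _ DFunLike.coe_injective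
    exact Finite.of_injective _ Units.val_injective
  have hblk : ∀ i, a * Nat.card (B.blockHom i).toHomUnits.range ≤
      b * Nat.card (ConjClasses (B.blockHom i).toHomUnits.range) := fun i => by
    haveI : Nontrivial (B.D i) := Submodule.nontrivial_iff_ne_bot.2 (B.D_ne i)
    set f := (B.blockHom i).toHomUnits with hf
    have hs : Group.IsSolvable f.range := Group.isSolvable_of_surjective f.rangeRestrict_surjective
    refine hb (B.D i) f.range ((Units.coeHom _).comp f.range.subtype) (B.rank i)
      (Units.val_injective.comp Subtype.val_injective) (fun W hW => B.blockHom_irred hirr i W ?_) hs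
    exact fun k w hw => hW ⟨f k, k, rfl⟩ w hw
  let Φ : B.π.ker →* (∀ i, (B.blockHom i).toHomUnits.range) :=
    MonoidHom.pi fun i => ((B.blockHom i).toHomUnits.rangeRestrict).comp
      (Subgroup.inclusion (B.ker_le_stab i))
  have hΦ : Function.Injective Φ := by
    rw [injective_iff_map_eq_one]
    exact fun n hn => B.bl_joint hρ n fun i => congrArg Subtype.val (congrFun hn i)
  have h := card_le_pi _ Φ hΦ hblk
  rw [Fintype.card_fin] at h
  rw [← Subgroup.index_ker]
  exact card_le_extend _ h

end Cfsg.Agent.SolKBound
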