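import Cfsg.Agent.Lib.SolKBound.ImgOrder
import Mathlib.Tactic

/-!
# Numerical inequalities
-/

set_option autoImplicit false
set_option linter.style.haveILetI false

namespace Cfsg.Agent.SolKBound

theorem sq_le_eleven_pow : ∀ a : ℕ, (a + 1) * (a + 1) ≤ 11 ^ a := by
  intro a
  induction a with
  | zero => norm_num
  | succ a ih => rw [pow_succ]; nlinarith

theorem eight_le_eleven_pow : ∀ k : ℕ, 21 * (k + 9) ^ 8 ≤ 11 ^ (k + 9) := by
  intro k
  induction k with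
  | zero => norm_num
  | succ k ih =>
    have h1 : (k + 1 + 9) * 9 ≤ (k + 9) * 10 := by omega
    have h2 := Nat.pow_le_pow_left h1 8
    rw [mul_pow, mul_pow] at h2
    rw [show k + 1 + 9 = (k + 9) + 1 by omega] at h2 ⊢
    rw [pow_succ 11 (k + 9)]
    have h3 : (k + 9 + 1) ^ 8 ≤ 11 * (k + 9) ^ 8 := by
      norm_num at h2
      omega
    calc 21 * (k + 9 + 1) ^ 8 ≤ 21 * (11 * (k + 9) ^ 8) := Nat.mul_le_mul_left _ h3
      _ = 21 * (k + 9) ^ 8 * 11 := by ring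
      _ ≤ _ := Nat.mul_le_mul_right _ ih

theorem small_e (a : ℕ) : 504 * (a * a) ≤ 11 ^ max 4 a := by
  rcases le_or_gt a 5 with h | h
  · refine le_trans ?_ (Nat.pow_le_pow_right (by norm_num) (le_max_left 4 a))
    have := Nat.mul_le_mul h h
    norm_num
    omega
  · refine le_trans ?_ (Nat.pow_le_pow_right (by norm_num) (le_max_right 4 a))
    obtain ⟨k, rfl⟩ := Nat.exists_eq_add_of_le' h
    induction k with
    | zero => norm_num
    | succ k ih =>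
      have := ih (by omega)
      rw [show k + 1 + 6 = k + 6 + 1 by omega, pow_succ]
      nlinarith

/-- The primitive inequality. -/
theorem table_le {a d e : ℕ} (ha : 0 < a) (he : 0 < e) (hed : e ≤ d) (h4 : 4 ≤ a * d)
    (hsp : ¬ (a = 1 ∧ e = 4 ∧ d = 4)) : 21 * (a * a * (e * e * tableJ e)) ≤ 11 ^ (a * d) := by
  obtain ⟨b, rfl⟩ := Nat.exists_eq_add_of_le' ha
  have hae : (b + 1) * e ≤ (b + 1) * d := Nat.mul_le_mul_left _ hed
  have hsq := sq_le_eleven_pow b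
  have key : ∀ K c : ℕ, 21 * K ≤ 11 ^ c → b + c ≤ (b + 1) * d →
      21 * ((b + 1) * (b + 1) * K) ≤ 11 ^ ((b + 1) * d) := fun K c hK hc => by
    calc 21 * ((b + 1) * (b + 1) * K) = (b + 1) * (b + 1) * (21 * K) := by ring
      _ ≤ 11 ^ b * 11 ^ c := Nat.mul_le_mul hsq hK
      _ = 11 ^ (b + c) := (pow_add _ _ _).symm
      _ ≤ _ := Nat.pow_le_pow_right (by norm_num) hc
  rcases (show e ≤ 2 ∨ e = 3 ∨ e = 4 ∨ (5 ≤ e ∧ e ≤ 8) ∨ 9 ≤ e by omega) with h | h | h | ⟨h, h'⟩ | h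
  · refine le_trans ?_ ((small_e (b + 1)).trans (Nat.pow_le_pow_right (by norm_num) (max_le h4 ?_)))
    · have : e * e * tableJ e ≤ 24 := by interval_cases e <;> simp [tableJ]
      calc 21 * ((b + 1) * (b + 1) * (e * e * tableJ e)) ≤ 21 * ((b + 1) * (b + 1) * 24) := by gcongr
        _ = _ := by ring
    · exact Nat.le_mul_of_pos_right _ (by omega)
  · subst h
    rcases Nat.eq_zero_or_pos b with rfl | hb
    · exact key _ 4 (by norm_num [tableJ]) (by omega)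
    · exact key _ 4 (by norm_num [tableJ]) (by omega)
  · subst h
    rcases Nat.eq_zero_or_pos b with rfl | hb
    · exact key _ 5 (by norm_num [tableJ]) (by omega)
    · exact key _ 5 (by norm_num [tableJ]) (by omega)
  · refine key _ e (by interval_cases e <;> norm_num [tableJ]) ?_
    rw [add_mul, one_mul] at hae
    have : b ≤ b * e := Nat.le_mul_of_pos_right _ (by omega)
    omega
  · refine key _ e ?_ ?_
    · have hJ : tableJ e = e ^ 6 := by unfold tableJ; split <;> omega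
      rw [hJ]
      obtain ⟨k, rfl⟩ := Nat.exists_eq_add_of_le' h
      refine le_of_eq_of_le ?_ (eight_le_eleven_pow k)
      ring
    · rw [add_mul, one_mul] at hae
      have : b ≤ b * e := Nat.le_mul_of_pos_right _ (by omega)
      omega

theorem sigma_sq {σ t : ℕ} (ht : 0 < t) (h : σ ≤ 3 ^ (t - 1)) : σ ^ 2 * 9 ≤ 9 ^ t := by
  obtain ⟨k, rfl⟩ := Nat.exists_eq_add_of_le' ht
  rw [Nat.add_sub_cancel] at h
  calc σ ^ 2 * 9 ≤ (3 ^ k) ^ 2 * 9 := Nat.mul_le_mul_right _ (Nat.pow_le_pow_left h 2)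
    _ = 9 ^ (k + 1) := by rw [← pow_mul, mul_comm k 2, pow_mul, show (3 : ℕ) ^ 2 = 9 from rfl, pow_succ]

theorem blocks_one {σ t : ℕ} (ht : 4 ≤ t) (hf : σ ≤ Nat.factorial t) (h3 : σ ≤ 3 ^ (t - 1)) :
    21 * σ ^ 2 ≤ 11 ^ t := by
  rcases eq_or_lt_of_le ht with rfl | h
  · rw [show Nat.factorial 4 = 24 from rfl] at hf
    exact (Nat.mul_le_mul_left _ (Nat.pow_le_pow_left hf 2)).trans (by norm_num)
  · have := sigma_sq (by omega) h3
    obtain ⟨k, rfl⟩ := Nat.exists_eq_add_of_le' h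
    have key : 21 * 9 ^ (k + 5) ≤ 9 * 11 ^ (k + 5) := by
      rw [pow_add, pow_add]
      calc 21 * (9 ^ k * 9 ^ 5) = 9 ^ k * (21 * 9 ^ 5) := by ring
        _ ≤ 11 ^ k * (9 * 11 ^ 5) := Nat.mul_le_mul (Nat.pow_le_pow_left (by norm_num) _) (by norm_num)
        _ = _ := by ring
    change σ ^ 2 * 9 ≤ 9 ^ (k + 5) at this
    change 21 * σ ^ 2 ≤ 11 ^ (k + 5)
    omega

theorem blocks_two {σ t : ℕ} (ht : 2 ≤ t) (hf : σ ≤ Nat.factorial t) (h3 : σ ≤ 3 ^ (t - 1)) :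
    21 * (σ ^ 2 * 9 ^ t) ≤ 11 ^ (t * 2) := by
  rcases eq_or_lt_of_le ht with rfl | h
  · rw [Nat.factorial_two] at hf
    exact (Nat.mul_le_mul_left _ (Nat.mul_le_mul_right _ (Nat.pow_le_pow_left hf 2))).trans (by norm_num)
  · have h9 := sigma_sq (by omega) h3
    obtain ⟨k, rfl⟩ := Nat.exists_eq_add_of_le' h
    refine Nat.le_of_mul_le_mul_left ?_ (show 0 < 9 by norm_num)
    calc 9 * (21 * (σ ^ 2 * 9 ^ (k + Nat.succ 2))) = 21 * ((σ ^ 2 * 9) * 9 ^ (k + 3)) := by ring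
      _ ≤ 21 * (9 ^ (k + 3) * 9 ^ (k + 3)) := Nat.mul_le_mul_left _ (Nat.mul_le_mul_right _ h9)
      _ = 81 ^ k * (21 * 81 ^ 3) := by rw [← mul_pow, pow_add]; norm_num; ring
      _ ≤ 121 ^ k * (9 * 121 ^ 3) := Nat.mul_le_mul (Nat.pow_le_pow_left (by norm_num) _) (by norm_num)
      _ = 9 * 11 ^ ((k + Nat.succ 2) * 2) := by rw [mul_comm (k + Nat.succ 2) 2, pow_mul, pow_add]; norm_num; ring

theorem blocks_three {σ t : ℕ} (ht : 2 ≤ t) (hf : σ ≤ Nat.factorial t) (h3 : σ ≤ 3 ^ (t - 1)) :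
    21 * (σ ^ 2 * 100 ^ t) ≤ 11 ^ (t * 3) := by
  rcases eq_or_lt_of_le ht with rfl | h
  · rw [Nat.factorial_two] at hf
    exact (Nat.mul_le_mul_left _ (Nat.mul_le_mul_right _ (Nat.pow_le_pow_left hf 2))).trans (by norm_num)
  · have h9 := sigma_sq (by omega) h3
    obtain ⟨k, rfl⟩ := Nat.exists_eq_add_of_le' h
    refine Nat.le_of_mul_le_mul_left ?_ (show 0 < 9 by norm_num)
    calc 9 * (21 * (σ ^ 2 * 100 ^ (k + Nat.succ 2))) = 21 * ((σ ^ 2 * 9) * 100 ^ (k + 3)) := by ring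
      _ ≤ 21 * (9 ^ (k + 3) * 100 ^ (k + 3)) := Nat.mul_le_mul_left _ (Nat.mul_le_mul_right _ h9)
      _ = 900 ^ k * (21 * 900 ^ 3) := by rw [← mul_pow, pow_add]; norm_num; ring
      _ ≤ 1331 ^ k * (9 * 1331 ^ 3) := Nat.mul_le_mul (Nat.pow_le_pow_left (by norm_num) _) (by norm_num)
      _ = 9 * 11 ^ ((k + Nat.succ 2) * 3) := by rw [mul_comm (k + Nat.succ 2) 3, pow_mul, pow_add]; norm_num; ring

theorem blocks_large {σ t : ℕ} (ht : 2 ≤ t) (hf : σ ≤ Nat.factorial t) (h3 : σ ≤ 3 ^ (t - 1)) :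
    σ ^ 2 * 21 ≤ 21 ^ t := by
  obtain ⟨k, rfl⟩ := Nat.exists_eq_add_of_le' ht
  rw [show k + 2 - 1 = k + 1 by omega] at h3
  rw [pow_succ 21]
  refine Nat.mul_le_mul_right _ ((Nat.pow_le_pow_left h3 2).trans ?_)
  rw [← pow_mul, mul_comm (k + 1) 2, pow_mul]
  exact Nat.pow_le_pow_left (by norm_num) _

end Cfsg.Agent.SolKBound
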