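import Cfsg.Agent.Lib.SolKBound.Counting
import Mathlib.LinearAlgebra.Determinant
import Mathlib.LinearAlgebra.Trace
import Mathlib.GroupTheory.SpecificGroups.Cyclic

/-!
# Classes above a class of the quotient by scalars
-/

set_option autoImplicit false
set_option linter.style.haveILetI false
set_option linter.unusedSectionVars false

namespace Cfsg.Agent.SolKBound

variable {G : Type*} [Group G] [Finite G] (A : Subgroup G) [A.Normal]

/-- The translations fixing the class of `x`. -/
def translates (x : G) : Set A := {c : A | ∃ y : G, y * x * y⁻¹ = (c : G) * x}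

/-- The classes above the class of `x`. -/
theorem fibre_bound (hA : A ≤ Subgroup.center G) (x : G) {d : ℕ}
    (hd : (translates A x).ncard ≤ d) :
    Nat.card A ≤ d * Nat.card {c : ConjClasses G //
      ConjClasses.map (QuotientGroup.mk' A) c = ConjClasses.mk (x : G ⧸ A)} := by
  classical
  haveI := Fintype.ofFinite A
  haveI := Fintype.ofFinite (ConjClasses G)
  have hmem : ∀ a : A, ConjClasses.map (QuotientGroup.mk' A) (ConjClasses.mk ((a : G) * x)) =
      ConjClasses.mk (x : G ⧸ A) := fun a => by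
    show ConjClasses.mk (QuotientGroup.mk' A ((a : G) * x)) = _
    rw [map_mul, QuotientGroup.mk'_apply, QuotientGroup.mk'_apply, (QuotientGroup.eq_one_iff _).2 a.2,
      one_mul]
  let f : A → {c : ConjClasses G //
      ConjClasses.map (QuotientGroup.mk' A) c = ConjClasses.mk (x : G ⧸ A)} := fun a => ⟨_, hmem a⟩
  rw [Nat.card_eq_fintype_card (α := A), Nat.card_eq_fintype_card, ← Finset.card_univ, ← Finset.card_univ]
  refine Finset.card_le_mul_card_image_of_maps_to (f := f) (fun _ _ => Finset.mem_univ _) d fun c _ => ?_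
  rcases (Finset.univ.filter fun a => f a = c).eq_empty_or_nonempty with h | ⟨a0, ha0⟩
  · rw [h]; simp
  refine le_trans ?_ hd
  rw [← Set.ncard_coe_finset]
  refine Set.ncard_le_ncard_of_injOn (fun a => a0⁻¹ * a) (fun a ha => ?_)
    (fun a _ b _ e => mul_left_cancel e) (Set.toFinite _)
  have h1 : f a0 = f a := (Finset.mem_filter.1 ha0).2.trans (Finset.mem_filter.1 (Finset.mem_coe.1 ha)).2.symm
  obtain ⟨y, hy⟩ := isConj_iff.1 (ConjClasses.mk_eq_mk_iff_isConj.1 (congrArg Subtype.val h1))
  refine ⟨y, ?_⟩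
  have hc : y * (a0 : G) = (a0 : G) * y := Subgroup.mem_center_iff.1 (hA a0.2) y
  rw [← mul_assoc, hc, mul_assoc (a0 : G), mul_assoc (a0 : G)] at hy
  rw [Subgroup.coe_mul, Subgroup.coe_inv, mul_assoc ((a0 : G)⁻¹), ← hy, inv_mul_cancel_left]

/-- Summing over the classes of the quotient. -/
theorem weighted_count (hA : A ≤ Subgroup.center G) {d : ℕ}
    (hd : ∀ x, (translates A x).ncard ≤ d) (T : Finset (ConjClasses (G ⧸ A)))
    (hT : ∀ x : G, ConjClasses.mk (x : G ⧸ A) ∈ T → (translates A x).ncard ≤ 1) :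
    Nat.card A * (d * T.card + (Nat.card (ConjClasses (G ⧸ A)) - T.card)) ≤ d * Nat.card (ConjClasses G) := by
  classical
  haveI := Fintype.ofFinite (ConjClasses (G ⧸ A))
  rw [← Nat.card_congr (Equiv.sigmaFiberEquiv (ConjClasses.map (QuotientGroup.mk' A))), Nat.card_sigma,
    Finset.mul_sum, ← Finset.sum_add_sum_compl T, mul_add,
    Nat.card_eq_fintype_card (α := ConjClasses (G ⧸ A)), ← Finset.card_compl]
  refine Nat.add_le_add ?_ ?_
  · refine le_of_eq_of_le (by rw [smul_eq_mul]; ring) (Finset.card_nsmul_le_sum T _ (d * Nat.card A) fun c hc => ?_)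
    obtain ⟨q, rfl⟩ := ConjClasses.mk_surjective c
    obtain ⟨x, rfl⟩ := QuotientGroup.mk_surjective q
    exact Nat.mul_le_mul_left _ ((fibre_bound A hA x (hT x hc)).trans_eq (one_mul _))
  · refine le_of_eq_of_le (by rw [smul_eq_mul]; ring) (Finset.card_nsmul_le_sum Tᶜ _ (Nat.card A) fun c hc => ?_)
    obtain ⟨q, rfl⟩ := ConjClasses.mk_surjective c
    obtain ⟨x, rfl⟩ := QuotientGroup.mk_surjective q
    exact fibre_bound A hA x (hd x)

/-- The trivial class has only trivial translates. -/
theorem translates_one {x : G} (hA : A ≤ Subgroup.center G) (hx : x ∈ A) :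
    (translates A x).ncard ≤ 1 := by
  refine (Set.ncard_le_ncard (t := ({1} : Set A)) ?_ (Set.toFinite _)).trans (Set.ncard_singleton _).le
  rintro c ⟨y, hy⟩
  rw [Subgroup.mem_center_iff.1 (hA hx) y, mul_inv_cancel_right, right_eq_mul] at hy
  exact Subtype.ext hy

section Linear

variable {F : Type*} [Field F] {V : Type*} [AddCommGroup V] [Module F V] [FiniteDimensional F V]
  [Nontrivial V] (ρ : G →* Module.End F V) (hρ : Function.Injective ρ)
  (hscal : ∀ x ∈ A, ∃ c : F, ρ x = algebraMap F (Module.End F V) c)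

include hρ hscal

theorem scalar_central : A ≤ Subgroup.center G := fun a ha => Subgroup.mem_center_iff.2 fun g => by
  obtain ⟨c, hc⟩ := hscal a ha
  apply hρ
  rw [map_mul, map_mul, hc, ← (Algebra.commute_algebraMap_left c (ρ g)).eq]

theorem det_ne_zero (x : G) : LinearMap.det (ρ x) ≠ 0 := fun h => by
  have := congrArg LinearMap.det (show ρ x * ρ x⁻¹ = 1 by rw [← map_mul, mul_inv_cancel, map_one])
  rw [map_mul, h, zero_mul, map_one] at this
  exact zero_ne_one this

theorem translate_pow (x : G) {c : A} (hc : c ∈ translates A x) :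
    ∃ l : F, ρ c = algebraMap F (Module.End F V) l ∧ l ^ Module.finrank F V = 1 ∧
      LinearMap.trace F V (ρ x) = l * LinearMap.trace F V (ρ x) := by
  obtain ⟨l, hl⟩ := hscal c c.2
  obtain ⟨y, hy⟩ := hc
  have h1 : ρ y * ρ x * ρ y⁻¹ = l • ρ x := by
    rw [← map_mul, ← map_mul, hy, map_mul, hl, Algebra.smul_def]
  refine ⟨l, hl, ?_, ?_⟩
  · have h2 := congrArg LinearMap.det h1
    rw [map_mul, map_mul, LinearMap.det_smul, mul_comm (LinearMap.det (ρ y)), mul_assoc, ← map_mul (LinearMap.det),
      ← map_mul ρ, mul_inv_cancel, map_one, map_one, mul_one] at h2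
    exact (mul_eq_right₀ (det_ne_zero A ρ hρ hscal x)).1 h2.symm
  · have h2 := congrArg (LinearMap.trace F V) h1
    rw [LinearMap.trace_mul_comm, ← mul_assoc, ← map_mul, inv_mul_cancel, map_one, one_mul, map_smul,
      smul_eq_mul] at h2
    exact h2

/-- There are at most `dim V` translates. -/
theorem translates_le [IsCyclic A] (x : G) : (translates A x).ncard ≤ Module.finrank F V := by
  classical
  haveI := Fintype.ofFinite A
  have hpos : 0 < Module.finrank F V := Module.finrank_pos
  refine (Set.ncard_le_ncard (t := ↑(Finset.univ.filter fun c : A => c ^ Module.finrank F V = 1)) (fun c hc => ?_)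
    (Set.toFinite _)).trans ?_
  · obtain ⟨l, hl, hl1, -⟩ := translate_pow A ρ hρ hscal x hc
    refine Finset.mem_coe.2 (Finset.mem_filter.2 ⟨Finset.mem_univ _, Subtype.ext (hρ ?_)⟩)
    rw [Subgroup.coe_pow, OneMemClass.coe_one, map_pow, hl, ← map_pow, hl1, map_one, map_one]
  · rw [Set.ncard_coe_finset]
    exact IsCyclic.card_pow_eq_one_le hpos

/-- In dimension two only elements whose square is a scalar have nontrivial translates. -/
theorem translates_sq (hdim : Module.finrank F V = 2)
    (hself : ∀ g : G, (∀ h : G, g * h = h * g) → g ∈ A) {x : G} (hx : x * x ∉ A) :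
    (translates A x).ncard ≤ 1 := by
  classical
  refine (Set.ncard_le_ncard (t := ({1} : Set A)) (fun c hc => ?_) (Set.toFinite _)).trans (Set.ncard_singleton _).le
  obtain ⟨l, hl, -, htr⟩ := translate_pow A ρ hρ hscal x hc
  by_contra hne
  have hl1 : l ≠ 1 := fun e => hne (Subtype.ext (hρ (by rw [hl, e, map_one, OneMemClass.coe_one, map_one])))
  have ht : LinearMap.trace F V (ρ x) = 0 := by
    by_contra h0
    exact hl1 ((mul_eq_right₀ h0).1 htr.symm)
  let b := Module.finBasisOfFinrankEq F V hdim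
  set e := LinearMap.toMatrixAlgEquiv b with he
  set M := e (ρ x) with hM
  have htM : M 0 0 + M 1 1 = 0 := by
    rw [LinearMap.trace_eq_matrix_trace F b, Matrix.trace_fin_two] at ht
    exact ht
  have hsq : M * M = algebraMap F (Matrix (Fin 2) (Fin 2) F) (M 0 0 * M 0 0 + M 0 1 * M 1 0) := by
    have h11 : M 1 1 = -M 0 0 := eq_neg_of_add_eq_zero_right htM
    ext i j
    fin_cases i <;> fin_cases j <;>
      simp [Matrix.mul_apply, Fin.sum_univ_two, Matrix.algebraMap_matrix_apply, h11] <;> ring
  refine hx (hself _ fun h => hρ ?_)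
  have h2 : ρ (x * x) = algebraMap F (Module.End F V) (M 0 0 * M 0 0 + M 0 1 * M 1 0) := by
    apply e.injective
    rw [map_mul, map_mul, ← hM, hsq, AlgEquiv.commutes]
  rw [map_mul ρ (x * x), map_mul ρ h, h2, (Algebra.commute_algebraMap_left _ (ρ h)).eq]

end Linear

end Cfsg.Agent.SolKBound
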