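import Cfsg.Agent.Lib.SolKBound.ImgOrder
import Cfsg.Agent.Lib.SolKBound.Weight
import Mathlib.GroupTheory.Sylow
import Mathlib.Tactic

/-!
# The primitive case
-/

set_option autoImplicit false
set_option linter.style.haveILetI false
set_option linter.unusedSectionVars false

namespace Cfsg.Agent.SolKBound

open Cfsg.Agent.SolClasses Cfsg.Agent.PrimSol
open scoped commutatorElement

universe u v w

variable {G : Type u} [Group G] [Finite G] {q r : ℕ} (P : PrimData G q r)

theorem prim_card_A_le : Nat.card P.A ≤ P.a * Nat.card (ConjClasses G) := by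
  have hAY : P.A ≤ P.S.Y1 := P.A_le.trans P.E_le_cent
  have hc : P.A.subgroupOf P.S.Y1 ≤ Subgroup.center P.S.Y1 := fun x hx => Subgroup.mem_center_iff.2 fun g => by
    refine Subtype.ext ?_
    have hg : (g : G) ∈ Subgroup.centralizer (P.A : Set G) := P.cent_eq ▸ g.2
    exact (Subgroup.mem_centralizer_iff.1 hg _ (Subgroup.mem_subgroupOf.1 hx)).symm
  rw [← Nat.card_congr (Subgroup.subgroupOfEquivOfLe hAY).toEquiv]
  exact (card_le_center _ hc).trans ((classes_sub_le _).trans (Nat.mul_le_mul_right _ P.Y1_index))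

/-- The crude bound. -/
theorem prim_bound : Nat.card G ≤ P.a * P.a * (Nat.card P.M * Nat.card P.S.img) * Nat.card (ConjClasses G) := by
  refine P.card_le.trans ?_
  calc P.a * (Nat.card P.A * Nat.card P.M * Nat.card P.S.img)
      ≤ P.a * (P.a * Nat.card (ConjClasses G) * Nat.card P.M * Nat.card P.S.img) := by
        gcongr; exact prim_card_A_le P
    _ = _ := by ring

theorem prim_square (hsol : Group.IsSolvable G) :
    ∃ e, Nat.card P.M = e * e ∧ 0 < e ∧ e ≤ P.d ∧ Nat.card P.S.img ≤ tableJ e := by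
  obtain ⟨e, he, h0⟩ := card_M_eq_square P.S hsol P.M_sqfree
  refine ⟨e, he.symm, h0, ?_, card_img_le_tableJ P.S hsol he.symm P.M_sqfree⟩
  have := P.M_le
  rw [← he] at this
  exact Nat.mul_self_le_mul_self_iff.1 this

variable {F : Type w} [Field F] {V : Type v} [AddCommGroup V] [Module F V] [FiniteDimensional F V]
  [Nontrivial V] (ρ : G →* Module.End F V)

/-- What is known for scalars in the ground field. -/
structure Scalars : Prop where
  inj : Function.Injective ρ
  one : P.a = 1
  scal : ∀ x ∈ P.A, ∃ c : F, ρ x = algebraMap F (Module.End F V) c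
  self : ∀ g, (∀ c ∈ P.A, g * c = c * g) → (∀ f ∈ P.E, g * f = f * g) → g ∈ P.A

variable {P} {ρ} (hs : Scalars P ρ)
include hs

theorem Scalars.central : P.A ≤ Subgroup.center G :=
  haveI := P.A_normal
  scalar_central P.A ρ hs.inj hs.scal

theorem Scalars.cyclic : IsCyclic P.A := by
  choose c hc using fun x : P.A => hs.scal x x.2
  have hinj : Function.Injective c := fun x y e => Subtype.ext (hs.inj (by rw [hc x, hc y, e]))
  refine isCyclic_of_injective_ringHom
    ({ toFun := c
       map_one' := (algebraMap F (Module.End F V)).injective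
         (by rw [← hc 1, OneMemClass.coe_one, map_one, map_one])
       map_mul' := fun x y => (algebraMap F (Module.End F V)).injective
         (by rw [← hc, map_mul (algebraMap F (Module.End F V)), ← hc, ← hc, Subgroup.coe_mul, map_mul]) } : P.A →* F)
    hinj

theorem Scalars.Y1_top : P.S.Y1 = ⊤ := by
  rw [P.cent_eq, eq_top_iff]
  exact fun g _ => Subgroup.mem_centralizer_iff.2 fun a ha => (Subgroup.mem_center_iff.1 (hs.central ha) g).symm

theorem Scalars.ker_act : P.S.act.ker = P.E := by
  have h := P.act_ker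
  rwa [hs.Y1_top, inf_top_eq] at h

theorem Scalars.img_eq : P.S.img = P.S.act.range := by
  rw [Sympl.img, hs.Y1_top, MonoidHom.range_eq_map]

/-- The order of the quotient by the scalars. -/
theorem Scalars.index_A : P.A.index = Nat.card P.M * Nat.card P.S.img := by
  rw [← Subgroup.relIndex_mul_index P.A_le, P.card_M, hs.img_eq, ← Subgroup.index_ker, hs.ker_act]

theorem Scalars.card_quot : Nat.card G = Nat.card P.A * (Nat.card P.M * Nat.card P.S.img) := by
  rw [← hs.index_A, Subgroup.card_mul_index]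

theorem Scalars.dvd : Nat.card P.A ∣ q - 1 := by
  have h := P.card_A_dvd
  rwa [hs.one, pow_one] at h

theorem Scalars.self_central (g : G) (h : ∀ x : G, g * x = x * g) : g ∈ P.A :=
  hs.self g (fun c _ => h c) (fun f _ => h f)

/-- The class count with weights. -/
theorem Scalars.count [P.A.Normal] {n : ℕ} (hn : Module.finrank F V = n) :
    Nat.card P.A * (n + (Nat.card (ConjClasses (G ⧸ P.A)) - 1)) ≤
      n * Nat.card (ConjClasses G) := by
  subst hn
  haveI := hs.cyclic
  have h := weighted_count P.A hs.central (translates_le P.A ρ hs.inj hs.scal) {ConjClasses.mk 1}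
    (fun x hx => translates_one P.A hs.central (by
      rw [Finset.mem_singleton, ConjClasses.mk_eq_mk_iff_isConj, isConj_one_left] at hx
      exact (QuotientGroup.eq_one_iff x).1 hx))
  rwa [Finset.card_singleton, mul_one] at h

/-- The class count for the quotient of order twenty four in dimension two. -/
theorem Scalars.count_two [P.A.Normal] (hdim : Module.finrank F V = 2)
    (hconj : ∀ g, (∀ f ∈ P.E, ⁅g, f⁆ ∈ P.A) → P.S.act g = 1)
    (hM : Nat.card P.M = 4) (hQ : Nat.card (G ⧸ P.A) = 24) :
    4 * Nat.card P.A ≤ Nat.card (ConjClasses G) := by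
  classical
  haveI : P.E.Normal := P.E_normal
  haveI : Fact (Nat.Prime 2) := ⟨Nat.prime_two⟩
  haveI : Fact (Nat.Prime 3) := ⟨Nat.prime_three⟩
  set π := QuotientGroup.mk' P.A with hπ
  set Eb := P.E.map π with hEb
  haveI hEbn : Eb.Normal := P.E_normal.map π (QuotientGroup.mk'_surjective _)
  have hEbc : Nat.card Eb = 4 := by
    rw [hEb, ← Subgroup.relIndex_ker, QuotientGroup.ker_mk', ← P.card_M, hM]
  have hE2 : IsPGroup 2 Eb := IsPGroup.of_card (n := 2) (by rw [hEbc]; norm_num)
  obtain ⟨T, hT⟩ := hE2.exists_le_sylow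
  have hTc : Nat.card (T : Subgroup (G ⧸ P.A)) = 8 := by
    rw [T.card_eq_multiplicity, hQ]
    have h24 : (24 : ℕ).factorization 2 = 3 := by
      rw [show (24 : ℕ) = 2 ^ 3 * 3 from rfl, Nat.factorization_mul (by norm_num) (by norm_num),
        Nat.prime_two.factorization_pow, Nat.prime_three.factorization]
      simp
    rw [h24]; norm_num
  have hu : ∃ u ∈ (T : Subgroup (G ⧸ P.A)), u * u ≠ 1 := by
    by_contra hcon
    push Not at hcon
    have hcomm : ∀ x ∈ (T : Subgroup (G ⧸ P.A)), ∀ y ∈ (T : Subgroup (G ⧸ P.A)), x * y = y * x := by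
      intro x hx y hy
      have h1 := hcon _ (mul_mem hx hy)
      calc x * y = (x * y)⁻¹ := eq_inv_of_mul_eq_one_left h1
        _ = y * x := by
          rw [mul_inv_rev, inv_eq_of_mul_eq_one_right (hcon x hx), inv_eq_of_mul_eq_one_right (hcon y hy)]
    have hle : (T : Subgroup (G ⧸ P.A)) ≤ Eb := by
      intro x hx
      obtain ⟨g, rfl⟩ := QuotientGroup.mk_surjective x
      refine ⟨g, ?_, rfl⟩
      rw [SetLike.mem_coe, ← hs.ker_act, MonoidHom.mem_ker]
      refine hconj g fun f hf => ?_
      refine (QuotientGroup.eq_one_iff _).1 ?_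
      show π ⁅g, f⁆ = 1
      rw [map_commutatorElement, commutatorElement_eq_one_iff_mul_comm]
      exact hcomm _ hx _ (hT ⟨f, hf, rfl⟩)
    have := Subgroup.card_le_of_le hle
    omega
  obtain ⟨u, huT, hu⟩ := hu
  obtain ⟨n, hn⟩ := IsPGroup.iff_orderOf.1 T.isPGroup' ⟨u, huT⟩
  rw [Subgroup.orderOf_mk] at hn
  obtain ⟨w, hw⟩ := exists_prime_orderOf_dvd_card' (G := G ⧸ P.A) 3 (by rw [hQ]; norm_num)
  have hw2 : w * w ≠ 1 := fun e => by
    have := orderOf_dvd_of_pow_eq_one (show w ^ 2 = 1 by rw [pow_two, e])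
    rw [hw] at this
    norm_num at this
  have hu1 : u ≠ 1 := fun e => hu (by rw [e, mul_one])
  have hw1 : w ≠ 1 := fun e => hw2 (by rw [e, mul_one])
  have huw : ConjClasses.mk u ≠ ConjClasses.mk w := fun e => by
    obtain ⟨c, hc⟩ := isConj_iff.1 (ConjClasses.mk_eq_mk_iff_isConj.1 e)
    have h3 : orderOf w = 2 ^ n := by
      rw [← hn, ← hc]
      exact ((MulAut.conj c).orderOf_eq u)
    rw [hw] at h3
    rcases n with _ | n
    · norm_num at h3
    · rw [pow_succ] at h3; omega
  have hk : 5 ≤ Nat.card (ConjClasses (G ⧸ P.A)) := by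
    by_contra h
    by_cases h3 : Nat.card (ConjClasses (G ⧸ P.A)) ≤ 3
    · have := card_le_of_classes_le_three h3
      omega
    haveI := Fintype.ofFinite (ConjClasses (G ⧸ P.A))
    have hsz : ∀ z : G ⧸ P.A, z ≠ 1 → (ConjClasses.mk z).carrier.ncard ≤ 8 ∧
        (2 < orderOf z → (ConjClasses.mk z).carrier.ncard * orderOf z ≤ 24) := by
      intro z hz
      have hm := ncard_carrier_mul z
      rw [hQ] at hm
      set C := Subgroup.centralizer ({z} : Set (G ⧸ P.A))
      have hzC : z ∈ C := Subgroup.mem_centralizer_singleton_iff.2 rfl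
      have hd : orderOf z ∣ Nat.card C := by
        rw [← Subgroup.orderOf_mk z hzC]; exact orderOf_dvd_natCard _
      have h2 := centralizer_ne_two (G := G ⧸ P.A) (by rw [hQ]; norm_num) z
      have ho : 2 ≤ orderOf z := by
        have h1 : orderOf z ≠ 1 := fun e => hz (orderOf_eq_one_iff.1 e)
        have := orderOf_pos z
        omega
      have hle := Nat.le_of_dvd Nat.card_pos hd
      refine ⟨?_, fun _ => ?_⟩
      · have h3 : 3 ≤ Nat.card C := by
          change Nat.card C ≠ 2 at h2
          omega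
        have := Nat.mul_le_mul_left (ConjClasses.mk z).carrier.ncard h3
        omega
      · exact hm ▸ Nat.mul_le_mul_left _ hle
    have h4u : (ConjClasses.mk u).carrier.ncard ≤ 6 := by
      have h4 : 4 ≤ orderOf u := by
        rw [hn]
        rcases n with _ | _ | n
        · exact absurd (orderOf_eq_one_iff.1 (hn.trans (pow_zero 2))) hu1
        · exfalso
          have := pow_orderOf_eq_one u
          rw [hn, show 2 ^ (0 + 1) = 2 from rfl, pow_two] at this
          exact hu this
        · calc 4 = 2 ^ 2 := rfl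
            _ ≤ _ := Nat.pow_le_pow_right two_pos (by omega)
      have h5 := (hsz u hu1).2 (by omega)
      have := Nat.mul_le_mul_left (ConjClasses.mk u).carrier.ncard h4
      omega
    have hs' := Group.sum_card_conj_classes_eq_card (G ⧸ P.A)
    rw [finsum_eq_sum_of_fintype, ← Finset.add_sum_erase _ _ (Finset.mem_univ (ConjClasses.mk 1)), ncard_carrier_one,
      ← Finset.add_sum_erase _ _ (Finset.mem_erase.2 ⟨fun e => hu1 (isConj_one_left.1
        (ConjClasses.mk_eq_mk_iff_isConj.1 e)), Finset.mem_univ (ConjClasses.mk u)⟩), hQ] at hs'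
    have hrest := Finset.sum_le_card_nsmul ((Finset.univ.erase (ConjClasses.mk 1)).erase (ConjClasses.mk u))
      (fun c : ConjClasses (G ⧸ P.A) => c.carrier.ncard) 8 fun c hc => by
        obtain ⟨z, rfl⟩ := ConjClasses.mk_surjective c
        exact (hsz z fun e => (Finset.mem_erase.1 (Finset.mem_of_mem_erase hc)).1 (by rw [e])).1
    rw [Finset.card_erase_of_mem (Finset.mem_erase.2 ⟨fun e => hu1 (isConj_one_left.1
        (ConjClasses.mk_eq_mk_iff_isConj.1 e)), Finset.mem_univ (ConjClasses.mk u)⟩),
      Finset.card_erase_of_mem (Finset.mem_univ _), Finset.card_univ, ← Nat.card_eq_fintype_card,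
      smul_eq_mul] at hrest
    omega
  haveI := hs.cyclic
  set S3 : Finset (ConjClasses (G ⧸ P.A)) := {ConjClasses.mk 1, ConjClasses.mk u, ConjClasses.mk w} with hS3
  have hne1 : ∀ z : G ⧸ P.A, z ≠ 1 → ConjClasses.mk 1 ≠ ConjClasses.mk z := fun z hz e =>
    hz (isConj_one_right.1 (ConjClasses.mk_eq_mk_iff_isConj.1 e))
  have hS3c : S3.card = 3 := Finset.card_eq_three.2 ⟨_, _, _, hne1 u hu1, hne1 w hw1, huw, rfl⟩
  have h := weighted_count P.A hs.central (translates_le P.A ρ hs.inj hs.scal) S3 (fun x hx => by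
    rw [hS3, Finset.mem_insert, Finset.mem_insert, Finset.mem_singleton] at hx
    rcases hx with hx | hx
    · rw [ConjClasses.mk_eq_mk_iff_isConj, isConj_one_left] at hx
      exact translates_one P.A hs.central ((QuotientGroup.eq_one_iff x).1 hx)
    · refine translates_sq P.A ρ hs.inj hs.scal hdim hs.self_central fun hxx => ?_
      have hxx' : (x : G ⧸ P.A) * (x : G ⧸ P.A) = 1 := (QuotientGroup.eq_one_iff (x * x)).2 hxx
      rcases hx with hx | hx <;> obtain ⟨c, hc⟩ := isConj_iff.1 (ConjClasses.mk_eq_mk_iff_isConj.1 hx)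
      · exact hu (by rw [← hc]; calc c * (x : G ⧸ P.A) * c⁻¹ * (c * x * c⁻¹) = c * (x * x) * c⁻¹ := by group
          _ = 1 := by rw [hxx', mul_one, mul_inv_cancel])
      · exact hw2 (by rw [← hc]; calc c * (x : G ⧸ P.A) * c⁻¹ * (c * x * c⁻¹) = c * (x * x) * c⁻¹ := by group
          _ = 1 := by rw [hxx', mul_one, mul_inv_cancel]))
  rw [hS3c, hdim] at h
  have h8 : Nat.card P.A * 8 ≤ Nat.card P.A * (2 * 3 + (Nat.card (ConjClasses (G ⧸ P.A)) - 3)) :=
    Nat.mul_le_mul_left _ (by omega)
  omega

end Cfsg.Agent.SolKBound
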