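import Cfsg.Agent.Lib.SolKBound.Imprim
import Cfsg.Agent.Lib.SolKBound.Prim
import Cfsg.Agent.Lib.SolKBound.Numeric
import Cfsg.Agent.Lib.SolClasses.Layer

/-!
# Order against class number for irreducible soluble linear groups
-/

set_option autoImplicit false
set_option linter.style.haveILetI false
set_option linter.unusedSectionVars false

namespace Cfsg.Agent.SolKBound

open Cfsg.Agent.SolClasses Cfsg.Agent.PrimSol

universe u v w

variable {F : Type w} [Field F] [Finite F]

theorem ratio_one : RatioBound.{v} F 1 1 1 := by
  intro W _ _ _ _ _ H _ _ τ hs hτ _ _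
  rw [one_mul, one_mul]
  refine (classes_of_comm fun a b => hτ ?_).ge
  obtain ⟨x, -, hgen⟩ := finrank_eq_one_iff'.1 hs
  obtain ⟨ca, hca⟩ := hgen (τ a x)
  obtain ⟨cb, hcb⟩ := hgen (τ b x)
  refine LinearMap.ext fun y => ?_
  obtain ⟨c, rfl⟩ := hgen y
  simp only [map_mul, Module.End.mul_apply, map_smul]
  rw [← hca, ← hcb, map_smul, map_smul, ← hca, ← hcb, smul_smul ca cb, smul_smul cb ca, mul_comm ca cb]

variable {V : Type v} [AddCommGroup V] [Module F V] [FiniteDimensional F V] [Finite V] [Nontrivial V]
  {H : Type v} [Group H] [Finite H] (ρ : H →* Module.End F V)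

theorem mulAut_four {M : Type*} [CommGroup M] [Finite M] (hM : Nat.card M = 4) :
    Finite (MulAut M) ∧ Nat.card (MulAut M) ∣ 6 := by
  classical
  haveI hf : Finite (MulAut M) := Finite.of_injective _ DFunLike.coe_injective
  refine ⟨hf, ?_⟩
  haveI := Fintype.ofFinite M
  let f : MulAut M →* Equiv.Perm {x : M // x ≠ 1} :=
    { toFun := fun φ => φ.toEquiv.subtypeEquiv fun x => (φ.map_ne_one_iff).symm
      map_one' := Equiv.ext fun x => Subtype.ext rfl
      map_mul' := fun _ _ => Equiv.ext fun x => Subtype.ext rfl }
  have hi : Function.Injective f := fun φ ψ h => MulEquiv.ext fun x => by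
    by_cases hx : x = 1
    · rw [hx, map_one, map_one]
    · exact congrArg Subtype.val (Equiv.congr_fun h ⟨x, hx⟩)
  have h := Subgroup.card_dvd_of_injective f hi
  rw [Nat.card_eq_fintype_card (α := Equiv.Perm _), Fintype.card_perm, Fintype.card_subtype_compl,
    Fintype.card_subtype_eq, ← Nat.card_eq_fintype_card, hM] at h
  exact h

/-- Dimension two. -/
theorem irred_two (hn : Module.finrank F V = 2) (hρ : Function.Injective ρ) (hirr : Irred ρ)
    (hsol : Group.IsSolvable H) :
    Nat.card H ≤ 5 * Nat.card (ConjClasses H) ∨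
      ∃ m, m ∣ Nat.card F - 1 ∧ Nat.card H ≤ 24 * m ∧ 4 * m ≤ Nat.card (ConjClasses H) := by
  classical
  by_cases hprim : NoDecomp ρ
  · obtain ⟨P, hscal, hself, hconj⟩ := exists_primData_ext ρ hρ hirr hprim hsol
    haveI := P.A_normal
    have hdim : P.a * P.d = 2 := P.dim.trans hn
    obtain ⟨e, he, he0, hed, hJ⟩ := prim_square P hsol
    rcases (Nat.dvd_prime Nat.prime_two).1 (Dvd.intro _ hdim) with ha | ha
    · have hs : Scalars P ρ := ⟨hρ, ha, hscal ha, hself⟩
      have hd : P.d = 2 := by rw [ha] at hdim; omega
      rw [hd] at hed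
      have hc := hs.card_quot
      have hcount := hs.count hn
      have hA := card_le_center P.A hs.central
      rcases (show e = 1 ∨ e = 2 by omega) with rfl | rfl
      · left
        rw [he] at hc
        change Nat.card P.S.img ≤ 1 at hJ
        have : Nat.card P.A * (1 * 1 * Nat.card P.S.img) ≤ Nat.card P.A * 1 :=
          Nat.mul_le_mul_left _ (by omega)
        omega
      · obtain ⟨hfin, h6⟩ := mulAut_four (M := P.M) he
        have hd6 : Nat.card P.S.img ∣ 6 := (Subgroup.card_subgroup_dvd_card _).trans h6
        have hQ : Nat.card (H ⧸ P.A) = 4 * Nat.card P.S.img := by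
          show P.A.index = _
          rw [hs.index_A, he]
        rcases (show Nat.card P.S.img = 1 ∨ Nat.card P.S.img = 2 ∨ Nat.card P.S.img = 3 ∨ Nat.card P.S.img = 6 by
          have := Nat.le_of_dvd (by norm_num) hd6
          interval_cases (Nat.card P.S.img) <;> omega) with h | h | h | h
        · left
          rw [he, h] at hc
          omega
        · left
          rw [he, h] at hc
          rw [h] at hQ
          have hk : 4 ≤ Nat.card (ConjClasses (H ⧸ P.A)) := by
            by_contra hk
            have := card_le_of_classes_le_three (G := H ⧸ P.A) (by omega)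
            omega
          have := (Nat.mul_le_mul_left (Nat.card P.A) (show 5 ≤ 2 + (Nat.card (ConjClasses (H ⧸ P.A)) - 1) by omega)).trans hcount
          omega
        · left
          rw [he, h] at hc
          rw [h] at hQ
          have hk : 4 ≤ Nat.card (ConjClasses (H ⧸ P.A)) := by
            by_contra hk
            have := card_le_of_classes_le_three (G := H ⧸ P.A) (by omega)
            omega
          have := (Nat.mul_le_mul_left (Nat.card P.A) (show 5 ≤ 2 + (Nat.card (ConjClasses (H ⧸ P.A)) - 1) by omega)).trans hcount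
          omega
        · right
          rw [he, h] at hc
          rw [h] at hQ
          exact ⟨Nat.card P.A, hs.dvd, by omega, hs.count_two hn hconj he hQ⟩
    · left
      have hd : P.d = 1 := by rw [ha] at hdim; omega
      obtain rfl : e = 1 := by omega
      refine (prim_bound P).trans (Nat.mul_le_mul_right _ ?_)
      change Nat.card P.S.img ≤ 1 at hJ
      rw [ha, he]
      omega
  · obtain ⟨B⟩ := exists_blocks hprim
    left
    have hd : B.t * B.s = 2 := B.dim.trans hn
    have ht : B.t = 2 := ((Nat.dvd_prime Nat.prime_two).1 (Dvd.intro _ hd)).resolve_left (by have := B.two_le; omega)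
    have hs : B.s = 1 := by rw [ht] at hd; omega
    have h := imprim_bound B hρ hirr hsol (show RatioBound.{v} F B.s 1 1 by rw [hs]; exact ratio_one)
    have hσ : Nat.card B.π.range ≤ 2 := B.card_range_le.trans_eq (by rw [ht]; rfl)
    simp only [one_pow, one_mul, mul_one] at h
    exact h.trans (Nat.mul_le_mul_right _ ((Nat.pow_le_pow_left hσ 2).trans (by norm_num)))

/-- Dimension three. -/
theorem irred_three (hn : Module.finrank F V = 3) (hρ : Function.Injective ρ) (hirr : Irred ρ)
    (hsol : Group.IsSolvable H) :
    Nat.card H ≤ 60 * Nat.card (ConjClasses H) ∨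
      (3 ∣ Nat.card F - 1 ∧ ∃ m, 0 < m ∧ Nat.card H ≤ 216 * m ∧ 7 * m ≤ 3 * Nat.card (ConjClasses H)) := by
  classical
  by_cases hprim : NoDecomp ρ
  · obtain ⟨P, hscal, hself, hconj⟩ := exists_primData_ext ρ hρ hirr hprim hsol
    haveI := P.A_normal
    have hdim : P.a * P.d = 3 := P.dim.trans hn
    obtain ⟨e, he, he0, hed, hJ⟩ := prim_square P hsol
    rcases (Nat.dvd_prime Nat.prime_three).1 (Dvd.intro _ hdim) with ha | ha
    · have hs : Scalars P ρ := ⟨hρ, ha, hscal ha, hself⟩
      have hd : P.d = 3 := by rw [ha] at hdim; omega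
      rw [hd] at hed
      have hc := hs.card_quot
      by_cases h60 : Nat.card P.M * Nat.card P.S.img ≤ 60
      · left
        rw [hc]
        exact (Nat.mul_le_mul_left _ h60).trans_eq (mul_comm _ _) |>.trans
          (Nat.mul_le_mul_left _ (card_le_center P.A hs.central))
      · have he3 : e = 3 := by
          rw [he] at h60
          rcases (show e = 1 ∨ e = 2 ∨ e = 3 by omega) with rfl | rfl | rfl
          · change Nat.card P.S.img ≤ 1 at hJ; omega
          · change Nat.card P.S.img ≤ 6 at hJ; omega
          · rfl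
        subst he3
        right
        refine ⟨?_, Nat.card P.A, Nat.card_pos, ?_, ?_⟩
        · have h := P.M_prime 3 Nat.prime_three (by rw [he]; norm_num)
          rwa [ha, pow_one] at h
        · rw [hc, he, mul_comm 216]
          change Nat.card P.S.img ≤ 24 at hJ
          exact Nat.mul_le_mul_left _ (by omega)
        · have hcount := hs.count hn
          have hQ : Nat.card (H ⧸ P.A) = Nat.card P.M * Nat.card P.S.img := hs.index_A
          have hk : 5 ≤ Nat.card (ConjClasses (H ⧸ P.A)) := by
            by_contra hk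
            have := card_le_of_classes_le_four (G := H ⧸ P.A) (by omega)
            omega
          refine le_trans ?_ hcount
          rw [mul_comm]
          exact Nat.mul_le_mul_left _ (by omega)
    · left
      have hd : P.d = 1 := by rw [ha] at hdim; omega
      obtain rfl : e = 1 := by omega
      refine (prim_bound P).trans (Nat.mul_le_mul_right _ ?_)
      change Nat.card P.S.img ≤ 1 at hJ
      rw [ha, he]
      omega
  · obtain ⟨B⟩ := exists_blocks hprim
    left
    have hd : B.t * B.s = 3 := B.dim.trans hn
    have ht : B.t = 3 := ((Nat.dvd_prime Nat.prime_three).1 (Dvd.intro _ hd)).resolve_left (by have := B.two_le; omega)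
    have hs : B.s = 1 := by rw [ht] at hd; omega
    have h := imprim_bound B hρ hirr hsol (show RatioBound.{v} F B.s 1 1 by rw [hs]; exact ratio_one)
    have hσ : Nat.card B.π.range ≤ 6 := B.card_range_le.trans_eq (by rw [ht]; rfl)
    simp only [one_pow, one_mul, mul_one] at h
    exact h.trans (Nat.mul_le_mul_right _ ((Nat.pow_le_pow_left hσ 2).trans (by norm_num)))

theorem ratio_two : RatioBound.{v} F 2 1 9 := by
  intro W _ _ _ _ _ H _ _ τ hs hτ hirr hsol
  rcases irred_two τ hs hτ hirr hsol with h | ⟨m, -, h1, h2⟩ <;> omega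

theorem ratio_three : RatioBound.{v} F 3 1 100 := by
  intro W _ _ _ _ _ H _ _ τ hs hτ hirr hsol
  rcases irred_three τ hs hτ hirr hsol with h | ⟨-, m, -, h1, h2⟩ <;> omega

/-- Dimension at least four. -/
theorem ratio_ge_four : ∀ n, 4 ≤ n → RatioBound.{v} F n 21 (11 ^ n) := by
  intro n
  induction n using Nat.strong_induction_on with
  | _ n ih =>
  intro hn4 W _ _ _ _ _ H _ _ τ hs hτ hirr hsol
  classical
  by_cases hprim : NoDecomp τ
  · obtain ⟨P, hscal, hself, hconj⟩ := exists_primData_ext τ hτ hirr hprim hsol
    haveI := P.A_normal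
    have hdim : P.a * P.d = n := P.dim.trans hs
    obtain ⟨e, he, he0, hed, hJ⟩ := prim_square P hsol
    by_cases hsp : P.a = 1 ∧ e = 4 ∧ P.d = 4
    · obtain ⟨ha, rfl, hd⟩ := hsp
      obtain rfl : n = 4 := by rw [← hdim, ha, hd]
      have hS : Scalars P τ := ⟨hτ, ha, hscal ha, hself⟩
      have hc := hS.card_quot
      change Nat.card P.S.img ≤ 72 at hJ
      by_cases hsmall : Nat.card P.M * Nat.card P.S.img ≤ 697
      · have := Nat.mul_le_mul (card_le_center P.A hS.central) hsmall
        omega
      · have hcount := hS.count hs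
        have hQ : Nat.card (H ⧸ P.A) = Nat.card P.M * Nat.card P.S.img := hS.index_A
        have hk : 5 ≤ Nat.card (ConjClasses (H ⧸ P.A)) := by
          by_contra hk
          have := card_le_of_classes_le_four (G := H ⧸ P.A) (by omega)
          omega
        have h8 := (Nat.mul_le_mul_left (Nat.card P.A) (show 8 ≤ 4 + (Nat.card (ConjClasses (H ⧸ P.A)) - 1) by omega)).trans hcount
        have hle : Nat.card P.A * (Nat.card P.M * Nat.card P.S.img) ≤ Nat.card P.A * 1152 :=
          Nat.mul_le_mul_left _ (by rw [he]; omega)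
        omega
    · refine (Nat.mul_le_mul_left 21 (prim_bound P)).trans ?_
      rw [← mul_assoc]
      refine Nat.mul_le_mul_right _ ((Nat.mul_le_mul_left 21 (Nat.mul_le_mul_left _
        (Nat.mul_le_mul_left _ hJ))).trans ?_)
      rw [he, ← hdim]
      exact table_le P.a_pos he0 hed (hdim ▸ hn4) hsp
  · obtain ⟨B⟩ := exists_blocks hprim
    have hd : B.t * B.s = n := B.dim.trans hs
    have ht := B.two_le
    have hσ := B.card_range_le
    have hσ3 := card_perm_le B hsol
    rcases (show B.s = 1 ∨ B.s = 2 ∨ B.s = 3 ∨ 4 ≤ B.s by have := B.s_pos; omega) with hs1 | hs2 | hs3 | hs4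
    · have h := imprim_bound B hτ hirr hsol (show RatioBound.{v} F B.s 1 1 by rw [hs1]; exact ratio_one)
      simp only [one_pow, one_mul, mul_one] at h
      refine (Nat.mul_le_mul_left 21 h).trans ?_
      rw [← mul_assoc]
      refine Nat.mul_le_mul_right _ ?_
      rw [hs1, mul_one] at hd
      subst hd
      exact blocks_one hn4 hσ hσ3
    · have h := imprim_bound B hτ hirr hsol (show RatioBound.{v} F B.s 1 9 by rw [hs2]; exact ratio_two)
      simp only [one_pow, one_mul] at h
      refine (Nat.mul_le_mul_left 21 h).trans ?_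
      rw [← mul_assoc]
      refine Nat.mul_le_mul_right _ ?_
      rw [← hd, hs2]
      exact blocks_two ht hσ hσ3
    · have h := imprim_bound B hτ hirr hsol (show RatioBound.{v} F B.s 1 100 by rw [hs3]; exact ratio_three)
      simp only [one_pow, one_mul] at h
      refine (Nat.mul_le_mul_left 21 h).trans ?_
      rw [← mul_assoc]
      refine Nat.mul_le_mul_right _ ?_
      rw [← hd, hs3]
      exact blocks_three ht hσ hσ3
    · have hlt : B.s < n := by
        rw [← hd]; exact lt_mul_left (by omega) (by omega)
      have h := imprim_bound B hτ hirr hsol (ih B.s hlt hs4)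
      refine Nat.le_of_mul_le_mul_left ?_ (show 0 < 21 ^ B.t by positivity)
      calc 21 ^ B.t * (21 * Nat.card H) = 21 * (21 ^ B.t * Nat.card H) := by ring
        _ ≤ 21 * (Nat.card B.π.range ^ 2 * (11 ^ B.s) ^ B.t * Nat.card (ConjClasses H)) :=
            Nat.mul_le_mul_left _ h
        _ = Nat.card B.π.range ^ 2 * 21 * (11 ^ n * Nat.card (ConjClasses H)) := by
            rw [← pow_mul, mul_comm B.s, hd]; ring
        _ ≤ 21 ^ B.t * (11 ^ n * Nat.card (ConjClasses H)) :=
            Nat.mul_le_mul_right _ (blocks_large ht hσ hσ3)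

end Cfsg.Agent.SolKBound
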