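import Cfsg.Agent.Lib.SolKBound.Irred
import Cfsg.Agent.Lib.SolKBound.Counting
import Cfsg.Agent.Lib.SolClasses.Orders
import Cfsg.Agent.Lib.SolClasses.QuotientCount
import Mathlib.GroupTheory.SpecificGroups.Cyclic

/-!
# Soluble groups of order divisible by the square of a prime have many classes
-/

set_option autoImplicit false
set_option linter.style.haveILetI false
set_option linter.unusedSectionVars false

namespace Cfsg.Agent.SolKBound

open Cfsg.Agent.SolClasses Cfsg.Agent.PrimSol Cfsg.Agent.FittingCores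
open scoped commutatorElement

universe u

variable {G : Type u} [Group G] [Finite G]

/-- The data of the action on a minimal normal subgroup. -/
theorem module_data (hsol : Group.IsSolvable G) {p : ℕ} [Fact p.Prime] (V : Subgroup G) [hVn : V.Normal]
    (hVc : IsMulCommutative V) (hexp : ∀ x ∈ V, x ^ p = 1)
    (hmin : ∀ K : Subgroup G, K.Normal → K ≤ V → K = ⊥ ∨ K = V) {n : ℕ} (hn : Nat.card V = p ^ n)
    (hn0 : 0 < n) :
    ∃ h κ O : ℕ, 0 < h ∧ κ + O ≤ Nat.card (ConjClasses G) ∧ p ^ n - 1 ≤ O * h ∧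
      (κ ≤ 3 → h ≤ 6) ∧ (κ ≤ 4 → h ≤ 42) ∧
      (n = 2 → h ≤ 5 * κ ∨ ∃ m, m ∣ p - 1 ∧ h ≤ 24 * m ∧ 4 * m ≤ κ) ∧
      (n = 3 → h ≤ 60 * κ ∨ (3 ∣ p - 1 ∧ ∃ m, 0 < m ∧ h ≤ 216 * m ∧ 7 * m ≤ 3 * κ)) ∧
      (4 ≤ n → 21 * h ≤ 11 ^ n * κ) := by
  classical
  letI : CommGroup V :=
    { (inferInstance : Group V) with mul_comm := fun a b => hVc.is_comm.comm a b }
  set act : G →* MulAut V := MulAut.conjNormal with hact
  have hcomm : ∀ c ∈ act.ker, ∀ v ∈ V, c * v = v * c := fun c hc v hv => by
    have h := congrArg Subtype.val (MulEquiv.congr_fun (MonoidHom.mem_ker.1 hc) (⟨v, hv⟩ : V))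
    rw [hact, MulAut.conjNormal_apply, MulAut.one_apply] at h
    exact mul_inv_eq_iff_eq_mul.1 h
  have hVker : V ≤ act.ker := fun v hv => MonoidHom.mem_ker.2 (MulEquiv.ext fun w => Subtype.ext (by
    rw [hact, MulAut.conjNormal_apply, MulAut.one_apply]
    exact mul_inv_eq_iff_eq_mul.2 (congrArg Subtype.val (hVc.is_comm.comm ⟨v, hv⟩ w))))
  obtain ⟨O, hO, hOV⟩ := orbit_count V act.ker hcomm
  haveI : Finite (MulAut V) := Finite.of_injective _ DFunLike.coe_injective
  set H := act.range with hH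
  have hk : Nat.card (ConjClasses H) ≤ Nat.card (ConjClasses (G ⧸ V)) :=
    classes_le_of_surjective (QuotientGroup.lift V act.rangeRestrict fun v hv =>
      Subtype.ext (hVker hv)) fun y => by
        obtain ⟨g, hg⟩ := act.rangeRestrict_surjective y
        exact ⟨(g : G ⧸ V), hg⟩
  refine ⟨Nat.card H, Nat.card (ConjClasses H), O, Nat.card_pos, (Nat.add_le_add_right hk O).trans hO, ?_,
    card_le_of_classes_le_three, card_le_of_classes_le_four, ?_⟩
  · rwa [← hn, ← Subgroup.index_ker]
  -- the linear representation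
  have hexpV : ∀ v : V, v ^ p = 1 := fun v => Subtype.ext (by simpa using hexp v v.2)
  haveI : Module (ZMod p) (Additive V) := AddCommGroup.zmodModule fun x => hexpV (Additive.toMul x)
  haveI : Module.Finite (ZMod p) (Additive V) := Module.Finite.of_finite
  haveI : Nontrivial V := Finite.one_lt_card_iff_nontrivial.1 (hn ▸ Nat.one_lt_pow hn0.ne' (Fact.out : p.Prime).one_lt)
  have hr : Module.finrank (ZMod p) (Additive V) = n := finrank_additive hn
  let τ := (linHom (M := V) p).comp H.subtype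
  have hτ : Function.Injective τ := (linHom_injective p).comp Subtype.val_injective
  have hirr : Irred τ := linHom_irred p _ fun B hB => by
    have hBn : (B.map V.subtype).Normal := ⟨fun x hx g => by
      obtain ⟨b, hb, rfl⟩ := hx
      exact ⟨act g b, hB _ ⟨g, rfl⟩ b hb, by rw [hact, Subgroup.coe_subtype, MulAut.conjNormal_apply]⟩⟩
    refine (hmin _ hBn (Subgroup.map_subtype_le B)).imp (fun h => ?_) fun h => ?_
    · exact (Subgroup.map_eq_bot_iff_of_injective _ V.subtype_injective).1 h
    · refine Subgroup.map_injective V.subtype_injective ?_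
      rw [h, ← MonoidHom.range_eq_map, Subgroup.range_subtype]
  haveI := hsol
  have hs : Group.IsSolvable H := Group.isSolvable_of_surjective act.rangeRestrict_surjective
  refine ⟨fun h2 => ?_, fun h3 => ?_, fun h4 => ?_⟩
  · have := irred_two τ (hr.trans h2) hτ hirr hs
    rwa [Nat.card_zmod] at this
  · have := irred_three τ (hr.trans h3) hτ hirr hs
    rwa [Nat.card_zmod] at this
  · exact ratio_ge_four n h4 (Additive V) H τ hr hτ hirr hs

theorem arith_two {p m : ℕ} (hp : p.Prime) (hp11 : 11 ≤ p) (hm : m ∣ p - 1) {h κ O : ℕ}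
    (hX : p ^ 2 - 1 ≤ O * h) (hh : h ≤ 24 * m) (hk : 4 * m ≤ κ) : 49 * p ≤ 60 * (κ + O) := by
  obtain ⟨j, hj⟩ := hm
  have hp1 : p = m * j + 1 := by omega
  have hm0 : 0 < m := Nat.pos_of_ne_zero fun e => by rw [e, zero_mul] at hj; omega
  by_cases hspecial : j = 9 ∧ m = 2
  · obtain ⟨rfl, rfl⟩ := hspecial
    obtain rfl : p = 19 := by omega
    have h1 := hX.trans (Nat.mul_le_mul_left O hh)
    norm_num at h1
    omega
  have key : 98 * (j * m) + 98 ≤ m * (5 * (j * j) + 480) + 10 * j := by
    rcases le_or_gt 10 j with h10 | h10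
    · obtain ⟨i, rfl⟩ := Nat.exists_eq_add_of_le' h10
      nlinarith [Nat.zero_le (m * (i * i)), Nat.zero_le (m * i)]
    · interval_cases j <;> omega
  have h1 := hX.trans (Nat.mul_le_mul_left O hh)
  have hsq : p ^ 2 - 1 = m * (m * (j * j) + 2 * j) := by
    rw [hp1]
    exact Nat.sub_eq_of_eq_add (by ring)
  rw [hsq] at h1
  refine Nat.le_of_mul_le_mul_left ?_ (show 0 < 24 * m by omega)
  calc 24 * m * (49 * p) = 12 * (m * (98 * (j * m) + 98)) := by rw [hp1]; ring
    _ ≤ 12 * (m * (m * (5 * (j * j) + 480) + 10 * j)) := Nat.mul_le_mul_left _ (Nat.mul_le_mul_left _ key)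
    _ = 60 * (m * (m * (j * j) + 2 * j)) + 24 * m * (60 * (4 * m)) := by ring
    _ ≤ 60 * (O * (24 * m)) + 24 * m * (60 * κ) := Nat.add_le_add (Nat.mul_le_mul_left _ h1)
        (Nat.mul_le_mul_left _ (Nat.mul_le_mul_left _ hk))
    _ = 24 * m * (60 * (κ + O)) := by ring

theorem arith_three {p m : ℕ} (hp : p.Prime) (hp11 : 11 ≤ p) (h3 : 3 ∣ p - 1) {h κ O : ℕ}
    (hm : 0 < m) (hX : p ^ 3 - 1 ≤ O * h) (hh : h ≤ 216 * m) (hk : 7 * m ≤ 3 * κ) :
    49 * p ≤ 60 * (κ + O) := by
  rcases le_or_gt 19 p with h19 | h19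
  · refine finish_bound (a := 7) (b := 648) hX (by omega) (by norm_num) ?_
    obtain ⟨i, rfl⟩ := Nat.exists_eq_add_of_le' h19
    rw [Nat.mul_sub, Nat.mul_sub]
    have h1 : 19 * (i + 19) ^ 2 ≤ (i + 19) ^ 3 := by rw [pow_succ _ 2, mul_comm]; gcongr
    have h2 : 19 ^ 2 ≤ (i + 19) ^ 2 := Nat.pow_le_pow_left (by omega) 2
    omega
  · obtain rfl : p = 13 := by
      interval_cases p <;> first | omega | exact absurd hp (by norm_num)
    norm_num at hX
    have h1 := hX.trans (Nat.mul_le_mul_left O hh)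
    rcases le_or_gt 5 m with h5 | h5
    · omega
    · interval_cases m <;> omega

/-- The case of a noncyclic minimal normal subgroup, `p ≥ 7`. -/
theorem noncyclic_case (hsol : Group.IsSolvable G) {p : ℕ} [hp : Fact p.Prime] (hp7 : 7 ≤ p) (V : Subgroup G)
    [V.Normal] (hVc : IsMulCommutative V) (hexp : ∀ x ∈ V, x ^ p = 1)
    (hmin : ∀ K : Subgroup G, K.Normal → K ≤ V → K = ⊥ ∨ K = V) {n : ℕ} (hn : Nat.card V = p ^ n)
    (hn2 : 2 ≤ n) : 49 * p ≤ 60 * Nat.card (ConjClasses G) := by
  obtain ⟨h, κ, O, h0, hk, hX, h6, h42, htwo, hthree, hfour⟩ := module_data hsol V hVc hexp hmin hn (by omega)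
  refine le_trans ?_ (Nat.mul_le_mul_left 60 hk)
  have hp2 : p ^ 2 ≤ p ^ n := Nat.pow_le_pow_right (by omega) hn2
  rcases (show p = 7 ∨ 11 ≤ p by
    by_contra hcon
    push Not at hcon
    have := hcon.1; have := hcon.2
    interval_cases p <;> first | omega | exact absurd hp.out (by norm_num)) with rfl | hp11
  · clear htwo hthree hfour
    norm_num at hp2
    rcases (show κ ≤ 3 ∨ κ = 4 ∨ 5 ≤ κ by omega) with hκ | hκ | hκ
    · have h1 := hX.trans (Nat.mul_le_mul_left O (h6 hκ))
      omega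
    · have h1 := hX.trans (Nat.mul_le_mul_left O (h42 hκ.le))
      omega
    · have : 0 < O := Nat.pos_of_ne_zero fun e => by rw [e, zero_mul] at hX; omega
      omega
  have hb : 121 ≤ p ^ 2 := by calc 121 = 11 ^ 2 := rfl
                                _ ≤ p ^ 2 := Nat.pow_le_pow_left hp11 2
  rcases (show n = 2 ∨ n = 3 ∨ 4 ≤ n by omega) with rfl | rfl | hn4
  · have ht := htwo rfl
    clear htwo hthree hfour
    rcases ht with hh | ⟨m, hm, hh, hk4⟩
    · exact finish_bound (a := 1) (b := 5) hX (by omega) (by norm_num) (by omega)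
    · exact arith_two hp.out hp11 hm hX hh hk4
  · have ht := hthree rfl
    clear htwo hthree hfour
    rcases ht with hh | ⟨h3, m, hm, hh, hk7⟩
    · refine finish_bound (a := 1) (b := 60) hX (by omega) (by norm_num) ?_
      have h1 : 11 * p ^ 2 ≤ p ^ 3 := by rw [pow_succ p 2, mul_comm]; gcongr
      omega
    · exact arith_three hp.out hp11 h3 hm hX hh hk7
  · refine finish_bound (a := 21) (b := 11 ^ n) hX (hfour hn4) (by positivity) ?_
    clear htwo hthree hfour
    obtain ⟨i, rfl⟩ := Nat.exists_eq_add_of_le' hn4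
    have h1 : 11 ^ (i + 4) * p ^ 2 ≤ 121 * p ^ (i + 4) := by
      calc 11 ^ (i + 4) * p ^ 2 = 121 * (11 ^ (i + 2) * p ^ 2) := by ring
        _ ≤ 121 * (p ^ (i + 2) * p ^ 2) := by gcongr
        _ = _ := by ring
    have h2 : 11 ^ 4 ≤ p ^ (i + 4) :=
      (Nat.pow_le_pow_left hp11 4).trans (Nat.pow_le_pow_right (by omega) (by omega))
    calc 11 ^ (i + 4) * (2401 * p ^ 2) = 2401 * (11 ^ (i + 4) * p ^ 2) := by ring
      _ ≤ 2401 * (121 * p ^ (i + 4)) := Nat.mul_le_mul_left _ h1
      _ ≤ _ := by omega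

/-- Commutators centralise normal subgroups of prime order. -/
theorem comm_centralises {p : ℕ} [Fact p.Prime] (K : Subgroup G) [K.Normal] (hK : Nat.card K = p)
    (g h : G) {x : G} (hx : x ∈ K) : ⁅g, h⁆ * x = x * ⁅g, h⁆ := by
  haveI : IsCyclic K := isCyclic_of_prime_card hK
  set φ : G →* MulAut K := MulAut.conjNormal with hφ
  have h1 : φ ⁅g, h⁆ = 1 := by
    apply (IsCyclic.mulAutMulEquiv K).injective
    rw [map_commutatorElement, map_commutatorElement, map_one]
    exact commutatorElement_eq_one_iff_mul_comm.2 (mul_comm _ _)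
  have h2 := congrArg Subtype.val (MulEquiv.congr_fun h1 (⟨x, hx⟩ : K))
  rw [hφ, MulAut.conjNormal_apply, MulAut.one_apply] at h2
  exact mul_inv_eq_iff_eq_mul.1 h2

/-- The case of a minimal normal subgroup of order `p`. -/
theorem cyclic_case (hsol : Group.IsSolvable G) {p : ℕ} [hp : Fact p.Prime]
    (hcore : Cfsg.pPrimeCore p G = ⊥) (hdvd : p ^ 2 ∣ Nat.card G) (V : Subgroup G) [V.Normal]
    (hV : Nat.card V = p) (hidx : ¬ p ^ 2 ∣ V.index) : 49 * p ≤ 60 * Nat.card (ConjClasses G) := by
  classical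
  haveI := hsol
  set R : Subgroup G := Cfsg.pCore p G with hR
  haveI hRn : R.Normal := FittingCores.pCore_normal p
  have hRp : IsPGroup p R := FittingCores.pCore_isPGroup p
  have hCR : Subgroup.centralizer (R : Set G) ≤ R := centralizer_pCore_le hp.out hcore
  have h3 : ¬ p ^ 3 ∣ Nat.card G := fun h => hidx (by
    rw [← V.card_mul_index, hV, show p ^ 3 = p * p ^ 2 by ring] at h
    exact Nat.dvd_of_mul_dvd_mul_left hp.out.pos h)
  obtain ⟨k, hk⟩ := IsPGroup.iff_card.1 hRp
  have hk2 : k ≤ 2 := by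
    by_contra hcon
    exact h3 ((pow_dvd_pow p (show 3 ≤ k by omega)).trans (hk ▸ Subgroup.card_subgroup_dvd_card R))
  have hRk : k = 2 := by
    by_contra hne
    have hk1 : k ≤ 1 := by omega
    set φ : G →* MulAut R := MulAut.conjNormal with hφ
    haveI : Finite (MulAut R) := Finite.of_injective _ DFunLike.coe_injective
    have hker : φ.ker ≤ R := fun g hg => hCR (Subgroup.mem_centralizer_iff.2 fun x hx => by
      have h := congrArg Subtype.val (MulEquiv.congr_fun (MonoidHom.mem_ker.1 hg) (⟨x, hx⟩ : R))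
      rw [hφ, MulAut.conjNormal_apply, MulAut.one_apply] at h
      exact (mul_inv_eq_iff_eq_mul.1 h).symm)
    have hpR : p ∣ R.index := by
      have h := hdvd
      rw [← R.card_mul_index, hk] at h
      rcases Nat.eq_zero_or_pos k with rfl | hk0
      · rw [pow_zero, one_mul] at h
        exact (dvd_pow_self p two_ne_zero).trans h
      · obtain rfl : k = 1 := by omega
        rw [pow_one, pow_two] at h
        exact Nat.dvd_of_mul_dvd_mul_left hp.out.pos h
    have hcard : Nat.card R ≤ p := by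
      rw [hk]
      calc p ^ k ≤ p ^ 1 := Nat.pow_le_pow_right hp.out.pos hk1
        _ = p := pow_one p
    have hd : R.index ∣ φ.ker.index := Subgroup.index_dvd_of_le hker
    have h4 : p ∣ Nat.card (MulAut R) :=
      (hpR.trans hd).trans (Subgroup.index_ker φ ▸ Subgroup.card_subgroup_dvd_card _)
    haveI : IsCyclic R := by
      rcases Nat.eq_zero_or_pos k with rfl | hk0
      · haveI : Subsingleton R := (Nat.card_eq_one_iff_unique.1 hk).1
        infer_instance
      · exact isCyclic_of_prime_card (p := p) (by rw [hk, show k = 1 by omega, pow_one])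
    rw [IsCyclic.card_mulAut, hk] at h4
    rcases Nat.eq_zero_or_pos k with rfl | hk0
    · rw [pow_zero, Nat.totient_one] at h4
      exact hp.out.not_dvd_one h4
    · rw [show k = 1 by omega, pow_one, Nat.totient_prime hp.out] at h4
      have := hp.out.two_le
      have := Nat.le_of_dvd (by omega) h4
      omega
  subst hRk
  haveI hRc : IsMulCommutative R := IsPGroup.isMulCommutative_of_card_eq_prime_sq hk
  have hRcomm : ∀ x ∈ R, ∀ y ∈ R, x * y = y * x := fun x hx y hy =>
    congrArg Subtype.val (hRc.is_comm.comm ⟨x, hx⟩ ⟨y, hy⟩)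
  have hndvd : ¬ p ∣ R.index := fun h => h3 (by
    rw [← R.card_mul_index, hk, pow_succ p 2]
    exact mul_dvd_mul_left _ h)
  have hVR : V ≤ R := FittingCores.le_pCore (inferInstance : V.Normal)
    (IsPGroup.of_card (n := 1) (by rw [hV, pow_one]))
  set π := QuotientGroup.mk' V with hπ
  set Rb := R.map π with hRb
  haveI : Rb.Normal := hRn.map π (QuotientGroup.mk'_surjective _)
  have hRbc : Nat.card Rb = p := by
    refine Nat.eq_of_mul_eq_mul_left hp.out.pos ?_
    conv_lhs => rw [← hV]
    rw [← pow_two, ← hk, hRb, ← Subgroup.relIndex_ker, QuotientGroup.ker_mk', Subgroup.relIndex,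
      ← Nat.card_congr (Subgroup.subgroupOfEquivOfLe hVR).toEquiv, Subgroup.card_mul_index]
  have hab : ∀ g h : G, ⁅g, h⁆ ∈ R := by
    intro g h
    set c := ⁅g, h⁆ with hc
    have hmem : ∀ r ∈ R, c * r * c⁻¹ * r⁻¹ ∈ V := fun r hr => by
      refine (QuotientGroup.eq_one_iff _).1 ?_
      show π (c * r * c⁻¹ * r⁻¹) = 1
      rw [map_mul, map_mul, map_mul, map_inv, map_inv, hc, map_commutatorElement,
        comm_centralises Rb hRbc (π g) (π h) ⟨r, hr, rfl⟩, mul_inv_cancel_right, mul_inv_cancel]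
    have hpow : c ^ p ∈ R := by
      refine hCR (Subgroup.mem_centralizer_iff.2 fun r hr => ?_)
      obtain ⟨v, hv, hvr⟩ : ∃ v ∈ V, c * r = v * r * c := ⟨_, hmem r hr, by group⟩
      have hcv : c * v = v * c := comm_centralises V hV g h hv
      have hj : ∀ j : ℕ, c ^ j * r = v ^ j * r * c ^ j := by
        intro j
        induction j with
        | zero => simp
        | succ j ih =>
          calc c ^ (j + 1) * r = c ^ j * (c * r) := by rw [pow_succ, mul_assoc]
            _ = c ^ j * (v * r * c) := by rw [hvr]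
            _ = v * (c ^ j * r) * c := by
                rw [mul_assoc v r c, ← mul_assoc (c ^ j) v, (Commute.pow_left hcv j).eq]; group
            _ = v * (v ^ j * r * c ^ j) * c := by rw [ih]
            _ = v ^ (j + 1) * r * c ^ (j + 1) := by rw [pow_succ c, pow_succ' v]; group
      have hvp : v ^ p = 1 := by
        have := pow_card_eq_one' (G := V) (x := ⟨v, hv⟩)
        rw [hV] at this
        exact congrArg Subtype.val this
      have := hj p
      rw [hvp, one_mul] at this
      exact this.symm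
    by_contra hcR
    have h1 : orderOf (c : G ⧸ R) = p := orderOf_eq_prime
      (by rw [← QuotientGroup.mk_pow]; exact (QuotientGroup.eq_one_iff _).2 hpow)
      fun e => hcR ((QuotientGroup.eq_one_iff _).1 e)
    exact hndvd (h1 ▸ orderOf_dvd_natCard _)
  obtain ⟨O, hO, hX⟩ := orbit_count R R hRcomm
  have hκ : Nat.card (ConjClasses (G ⧸ R)) = R.index := classes_of_comm fun a b => by
    obtain ⟨a, rfl⟩ := QuotientGroup.mk_surjective a
    obtain ⟨b, rfl⟩ := QuotientGroup.mk_surjective b
    apply commutatorElement_eq_one_iff_mul_comm.1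
    show ⁅QuotientGroup.mk' R a, QuotientGroup.mk' R b⁆ = 1
    rw [← map_commutatorElement]
    exact (QuotientGroup.eq_one_iff _).2 (hab a b)
  rw [hκ] at hO
  rw [hk] at hX
  refine le_trans ?_ (Nat.mul_le_mul_left 60 hO)
  refine finish_bound (a := 1) (b := 1) hX le_rfl one_pos ?_
  have : 2 ^ 2 ≤ p ^ 2 := Nat.pow_le_pow_left hp.out.two_le 2
  norm_num at this
  omega

/-- Small primes. -/
theorem small_primes [Nontrivial G] {p : ℕ} (hp : p.Prime) (hp7 : p < 7) (hdvd : p ^ 2 ∣ Nat.card G) :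
    49 * p ≤ 60 * Nat.card (ConjClasses G) := by
  have hk2 : 2 ≤ Nat.card (ConjClasses G) := by
    obtain ⟨g, hg⟩ := exists_ne (1 : G)
    haveI : Nontrivial (ConjClasses G) := ⟨⟨ConjClasses.mk g, ConjClasses.mk 1, fun e =>
      hg (isConj_one_left.1 (ConjClasses.mk_eq_mk_iff_isConj.1 e))⟩⟩
    exact Finite.one_lt_card
  have hle := Nat.le_of_dvd Nat.card_pos hdvd
  interval_cases p <;> norm_num at hp
  · omega
  · norm_num at hle
    by_contra hcon
    have := card_le_of_classes_le_three (G := G) (by omega)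
    omega
  · norm_num at hle hdvd
    by_contra hcon
    have := card_le_of_classes_le_four (G := G) (by omega)
    have h25 : Nat.card G = 5 ^ 2 := by omega
    haveI : Fact (Nat.Prime 5) := ⟨by norm_num⟩
    have hc : IsMulCommutative G := IsPGroup.isMulCommutative_of_card_eq_prime_sq h25
    have := classes_of_comm (G := G) fun a b => hc.is_comm.comm a b
    omega

/-- The bound. -/
theorem main : ∀ (n : ℕ) (G : Type u) [Group G] [Finite G], Nat.card G = n → Group.IsSolvable G →
    ∀ (p : ℕ) [Fact p.Prime], p ^ 2 ∣ Nat.card G → 49 * p ≤ 60 * Nat.card (ConjClasses G) := by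
  intro n
  induction n using Nat.strong_induction_on with
  | _ n ih =>
  intro G _ _ hn hsol p hp hdvd
  classical
  haveI := hsol
  haveI : Nontrivial G := Finite.one_lt_card_iff_nontrivial.1
    (lt_of_lt_of_le (Nat.one_lt_pow two_ne_zero hp.out.one_lt) (Nat.le_of_dvd Nat.card_pos hdvd))
  rcases lt_or_ge p 7 with hp7 | hp7
  · exact small_primes hp.out hp7 hdvd
  have step : ∀ M : Subgroup G, M.Normal → M ≠ ⊥ → p ^ 2 ∣ M.index →
      49 * p ≤ 60 * Nat.card (ConjClasses G) := fun M hM hne hd => by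
    haveI := hM
    have hlt : Nat.card (G ⧸ M) < n := by
      rw [← hn, ← M.card_mul_index]
      exact lt_mul_left (Nat.pos_of_ne_zero Subgroup.index_ne_zero_of_finite)
        ((Subgroup.one_lt_card_iff_ne_bot M).2 hne)
    exact (ih _ hlt (G ⧸ M) rfl inferInstance p hd).trans
      (Nat.mul_le_mul_left _ (classes_le_of_surjective _ (QuotientGroup.mk'_surjective M)))
  by_cases hcore : Cfsg.pPrimeCore p G = ⊥
  swap
  · refine step _ (FittingCores.pPrimeCore_normal p) hcore ?_
    have h := hdvd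
    rw [← (Cfsg.pPrimeCore p G).card_mul_index] at h
    exact ((Nat.Coprime.pow_left 2 (FittingCores.pPrimeCore_coprime p).symm)).dvd_of_dvd_mul_left h
  obtain ⟨V, r, hr, hVn, hV0, -, hVc, hexp, hVp, hmin⟩ :=
    SolvBasic.exists_minimal_normal_abelian (N := (⊤ : Subgroup G)) inferInstance top_ne_bot
  haveI := hVn
  by_cases hidx : p ^ 2 ∣ V.index
  · exact step V hVn hV0 hidx
  haveI := Fact.mk hr
  obtain ⟨m, hm⟩ := IsPGroup.iff_card.1 hVp
  have hrp : r = p := by
    by_contra hne
    refine hidx ?_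
    have h := hdvd
    rw [← V.card_mul_index, hm] at h
    exact (((Nat.coprime_primes hp.out hr).2 (Ne.symm hne)).pow 2 m).dvd_of_dvd_mul_left h
  subst hrp
  rcases (show m = 0 ∨ m = 1 ∨ 2 ≤ m by omega) with rfl | rfl | hm2
  · exact absurd (Subgroup.card_eq_one.1 (hm.trans (pow_zero _))) hV0
  · exact cyclic_case hsol hcore hdvd V (hm.trans (pow_one _)) hidx
  · exact noncyclic_case hsol hp7 V hVc hexp hmin hm hm2

end Cfsg.Agent.SolKBound
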